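import Cfsg.Agent.Lib.Characters.DihedralNine.Lattice

/-!
# No degrees fit the six shapes

Rows carry a column, the signed degree and the signed value at an involution.
-/

namespace Cfsg.Agent.Lib.Characters.DihedralNine

/-- Value at the axis element of order three. -/
def valA : Vec → ℤ | (a, b, c, d) => b + c - a + 2 * d

/-- Value at the diagonal element of order three. -/
def valB : Vec → ℤ | (a, b, c, d) => b + c - a - d

/-- Value at the element of order six above the axis element. -/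
def valT : Vec → ℤ | (a, b, c, _) => a + b - c

/-- What is known about a non-principal character of a simple group in the configuration. -/
structure RowOK (v : Vec) (δ x : ℤ) : Prop where
  three_le : 3 ≤ δ ∨ δ ≤ -3
  modNine : (δ + 4 * valA v + 4 * valB v) % 9 = 0
  triv : 0 ≤ δ * (δ + 4 * valA v + 4 * valB v)
  axis : 0 ≤ δ * (δ + valA v - 2 * valB v)
  diag : 0 ≤ δ * (δ - 2 * valA v + valB v)
  neA : valA v ≠ δ
  neB : valB v ≠ δ
  modThree : (x - valT v) % 3 = 0
  modFour : (x - δ) % 4 = 0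
  small : x.natAbs < δ.natAbs

theorem inv_ge {x : ℤ} {m : ℚ} (hm : 0 < m) (h : 0 < x ∨ (x : ℚ) ≤ -m) :
    -(1 / m) ≤ 1 / (x : ℚ) := by
  have h1 : 0 < 1 / m := div_pos one_pos hm
  rcases h with h | h
  · have : 0 < 1 / (x : ℚ) := div_pos one_pos (by exact_mod_cast h)
    linarith
  · have hneg : 0 < -(x : ℚ) := by linarith
    have : 1 / -(x : ℚ) ≤ 1 / m := one_div_le_one_div_of_le hm (by linarith)
    rw [div_neg] at this
    linarith

theorem inv_le {x : ℤ} {m : ℚ} (hm : 0 < m) (h : x < 0 ∨ m ≤ (x : ℚ)) :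
    1 / (x : ℚ) ≤ 1 / m := by
  have h1 : 0 < 1 / m := div_pos one_pos hm
  rcases h with h | h
  · have : 1 / (x : ℚ) < 0 := div_neg_of_pos_of_neg one_pos (by exact_mod_cast h)
    linarith
  · exact one_div_le_one_div_of_le hm h

theorem sign_cases {δ u : ℤ} (h : 0 ≤ δ * u) : (0 ≤ δ ∧ 0 ≤ u) ∨ (δ ≤ 0 ∧ u ≤ 0) :=
  mul_nonneg_iff.1 h

theorem cast_nine {δ : ℤ} {r : ℕ} (h : (δ - (r : ℤ)) % 9 = 0) : (δ : ZMod 9) = (r : ZMod 9) := by
  have h' : ((r : ℤ) : ZMod 9) = (δ : ZMod 9) :=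
    (ZMod.intCast_eq_intCast_iff_dvd_sub (r : ℤ) δ 9).2 (Int.dvd_of_emod_eq_zero (by simpa using h))
  simpa using h'.symm

/-- The sum of three reciprocals of degrees `≡ 5` modulo 9 is not zero. -/
theorem no_three_five {b g h : ℤ} (hb : (b - 5) % 9 = 0) (hg : (g - 5) % 9 = 0)
    (hh : (h - 5) % 9 = 0) : b * g + b * h + g * h ≠ 0 := by
  intro e
  have := congrArg (Int.cast : ℤ → ZMod 9) e
  push_cast at this
  rw [cast_nine (r := 5) hb, cast_nine (r := 5) hg, cast_nine (r := 5) hh] at this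
  exact absurd this (by decide)

theorem no_four_four_five {b c f : ℤ} (hb : (b - 4) % 9 = 0) (hc : (c - 4) % 9 = 0)
    (hf : (f - 5) % 9 = 0) : c * f + b * f - b * c ≠ 0 := by
  intro e
  have := congrArg (Int.cast : ℤ → ZMod 9) e
  push_cast at this
  rw [cast_nine (r := 4) hb, cast_nine (r := 4) hc, cast_nine (r := 5) hf] at this
  exact absurd this (by decide)

/-! ### The fifth shape -/

/-- The numerical condition in the fifth shape. -/
def candFive (A b : ℤ) : Bool :=
  let C := -1 - A - b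
  let e := C - 1 - A
  decide (C ≠ 3) && decide (e ≠ 1) && decide (e ≠ 0) && decide (
    (A * b * e + b * e + 2 * A * e + 2 * A * b) * (A * b * e) *
      (1 + A ^ 2 + 2 * b ^ 2 + 2 * C ^ 2 + 2 * e ^ 2) ≤ 648 * (A * b * e) ^ 2)

theorem candFive_false : ∀ A ∈ ([-35, -26, -17, -8, 10, 19, 28, 37] : List ℤ),
    ∀ b ∈ ([-23, -14, 13, 22] : List ℤ), candFive A b = false := by
  decide +kernel

theorem shape_five_false {A b C e : ℤ} {N : ℚ} (hA : (A - 1) % 9 = 0) (hb : (b - 4) % 9 = 0)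
    (he : (e - 1) % 9 = 0) (hA3 : 8 ≤ A ∨ A ≤ -8) (hb13 : 13 ≤ b ∨ b ≤ -14)
    (he3 : 8 ≤ e ∨ e ≤ -8) (hC3 : C ≠ 3) (hl1 : 1 + A + b + C = 0) (hl2 : 1 + A - C + e = 0)
    (hS : 1 + 1 / (A : ℚ) + 2 * (1 / (b : ℚ)) + 2 * (1 / (e : ℚ)) = 648 / N)
    (hN : 1 + (A : ℚ) ^ 2 + 2 * (b : ℚ) ^ 2 + 2 * (C : ℚ) ^ 2 + 2 * (e : ℚ) ^ 2 ≤ N) : False := by
  set Q := 1 + (A : ℚ) ^ 2 + 2 * (b : ℚ) ^ 2 + 2 * (C : ℚ) ^ 2 + 2 * (e : ℚ) ^ 2 with hQ
  have hN0 : 0 < N := lt_of_lt_of_le (by positivity) hN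
  set S := 1 + 1 / (A : ℚ) + 2 * (1 / (b : ℚ)) + 2 * (1 / (e : ℚ)) with hSdef
  have hS' : S * N = 648 := by rw [hS, div_mul_cancel₀ _ hN0.ne']
  have hSpos : 0 < S := by rw [hS]; positivity
  have hmain : S * Q ≤ 648 := hS' ▸ mul_le_mul_of_nonneg_left hN hSpos.le
  have a1 : -(1 / (8 : ℚ)) ≤ 1 / (A : ℚ) := inv_ge (by norm_num)
    (hA3.imp (by omega) fun h => by exact_mod_cast h)
  have b1 : -(1 / (14 : ℚ)) ≤ 1 / (b : ℚ) := inv_ge (by norm_num)
    (hb13.imp (by omega) fun h => by exact_mod_cast h)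
  have e1 : -(1 / (8 : ℚ)) ≤ 1 / (e : ℚ) := inv_ge (by norm_num)
    (he3.imp (by omega) fun h => by exact_mod_cast h)
  have hS4 : (47 / 100 : ℚ) ≤ S := by rw [hSdef]; linarith
  have hQb : Q ≤ 1380 := by nlinarith
  have hA' : -37 ≤ A ∧ A ≤ 37 := by
    have : (A : ℚ) ^ 2 ≤ 1379 := by rw [hQ] at hQb; nlinarith
    have h' : A ^ 2 ≤ 1379 := by exact_mod_cast this
    constructor <;> nlinarith
  have hb' : -26 ≤ b ∧ b ≤ 26 := by
    have : (b : ℚ) ^ 2 ≤ 690 := by rw [hQ] at hQb; nlinarith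
    have h' : b ^ 2 ≤ 690 := by exact_mod_cast this
    constructor <;> nlinarith
  have hmA : A ∈ ([-35, -26, -17, -8, 10, 19, 28, 37] : List ℤ) := by
    simp only [List.mem_cons, List.not_mem_nil, or_false]; omega
  have hmb : b ∈ ([-23, -14, 13, 22] : List ℤ) := by
    simp only [List.mem_cons, List.not_mem_nil, or_false]; omega
  have hf := candFive_false A hmA b hmb
  have hC : C = -1 - A - b := by omega
  have he' : e = C - 1 - A := by omega
  have hA0 : (A : ℚ) ≠ 0 := by norm_cast; omega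
  have hb0 : (b : ℚ) ≠ 0 := by norm_cast; omega
  have he0 : (e : ℚ) ≠ 0 := by norm_cast; omega
  have hkey : (A * b * e + b * e + 2 * A * e + 2 * A * b) * (A * b * e) *
      (1 + A ^ 2 + 2 * b ^ 2 + 2 * C ^ 2 + 2 * e ^ 2) ≤ 648 * (A * b * e) ^ 2 := by
    have h2 : 0 ≤ ((A : ℚ) * b * e) ^ 2 := sq_nonneg _
    have h3 := mul_le_mul_of_nonneg_right hmain h2
    have h4 : S * Q * ((A : ℚ) * b * e) ^ 2 =
        ((A : ℚ) * b * e + b * e + 2 * A * e + 2 * A * b) * (A * b * e) * Q := by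
      rw [hSdef]; field_simp
    rw [h4, hQ] at h3
    exact_mod_cast h3
  simp only [candFive, ← hC, ← he', Bool.and_eq_false_iff, decide_eq_false_iff_not] at hf
  rcases hf with ((h | h) | h) | h
  · exact h hC3
  · exact h (by omega)
  · exact h (by omega)
  · exact h hkey

/-! ### The third shape -/

/-- An admissible involution value. -/
def xOK (δ T x : ℤ) : Bool :=
  decide ((x - T) % 3 = 0) && decide ((x - δ) % 4 = 0) && decide (x.natAbs < δ.natAbs)

/-- The admissible involution values. -/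
def xCands (δ T : ℤ) : List ℤ :=
  ((List.range (2 * δ.natAbs)).map fun i : ℕ => (i : ℤ) - δ.natAbs).filter (xOK δ T)

theorem mem_xCands {δ T x : ℤ} (h : xOK δ T x = true) : x ∈ xCands δ T := by
  refine List.mem_filter.2 ⟨List.mem_map.2 ⟨(x + δ.natAbs).toNat, ?_, ?_⟩, h⟩
  · simp only [xOK, Bool.and_eq_true, decide_eq_true_eq] at h
    rw [List.mem_range]; omega
  · simp only [xOK, Bool.and_eq_true, decide_eq_true_eq] at h
    omega

/-- No column of involution values fits the degrees. -/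
def noX (a b d : ℤ) : Bool :=
  let c := -1 - a - b
  let e := -1 - d - a
  (xCands a 0).all fun xa => (xCands b 1).all fun xb => (xCands d 0).all fun xd =>
    (xCands a 1).all fun xf =>
      !(xOK c 1 (-1 - xa - xb) && xOK e 1 (-1 - xd - xf) && xOK e (-1) (-1 - xa - xd) &&
        xOK (-b) 0 (xf - xa - xb) &&
        decide (a * b * c * d * e + (-2 * xa - 2 * xf) * (b * c * d * e)
          + (-2 * xb + 2 * (xf - xa - xb)) * (a * c * d * e) + (-1 - xa - xb) * (a * b * d * e)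
          + 4 * xd * (a * b * c * e) + ((-1 - xd - xf) + (-1 - xa - xd)) * (a * b * c * d) = 0))

/-- The numerical condition on the degrees in the third shape. -/
def candThree (a b d : ℤ) : Bool :=
  let c := -1 - a - b
  let e := -1 - d - a
  let P := a * b * c * d * e
  (decide (8 ≤ c) || decide (c ≤ -10)) && (decide (10 ≤ e) || decide (e ≤ -8)) &&
    decide ((P - 2 * (b * c * d * e) + 2 * (a * c * d * e) - a * b * d * e + 8 * (a * b * c * e)
      + 2 * (a * b * c * d)) * P * (1 + 2 * a ^ 2 + 2 * b ^ 2 + c ^ 2 + d ^ 2 + 2 * e ^ 2)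
      ≤ 648 * P ^ 2) &&
    decide (0 < (P - 2 * (b * c * d * e) + 2 * (a * c * d * e) - a * b * d * e
      + 8 * (a * b * c * e) + 2 * (a * b * c * d)) * P)

/-- The values of `a`. -/
def aList : List ℤ := [-58, -49, -40, -31, -22, -13, -4, 5, 14, 23, 32, 41, 50, 59]

/-- The values of `b`. -/
def bList : List ℤ := [-113, -104, -95, -86, -77, -68, -59, -50, -41, -32, -23, -14,
  13, 22, 31, 40, 49, 58, 67, 76, 85, 94, 103, 112, 121]

/-- The values of `d`. -/
def dList : List ℤ := [-115, -106, -97, -88, -79, -70, -61, -52, -43, -34, -25, -16,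
  11, 20, 29, 38, 47, 56, 65, 74, 83, 92, 101, 110, 119]

/-- The finite check. -/
def checkThree : Bool :=
  aList.all fun a => bList.all fun b => dList.all fun d => !(candThree a b d) || noX a b d

theorem checkThree_eq : checkThree = true := by decide +kernel

set_option maxHeartbeats 2000000 in
theorem shape_three_false {a b c d e xa xb xc xd xe xf xg xh : ℤ} {N : ℚ}
    (ha : (a - 5) % 9 = 0) (hb : (b - 4) % 9 = 0) (hd : (d - 2) % 9 = 0)
    (ha5 : 5 ≤ a ∨ a ≤ -4) (hb13 : 13 ≤ b ∨ b ≤ -14) (hc8 : 8 ≤ c ∨ c ≤ -10)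
    (hd11 : 11 ≤ d ∨ d ≤ -16) (he10 : 10 ≤ e ∨ e ≤ -8)
    (hl1 : 1 + a + b + c = 0) (hl2 : 1 + d + e + a = 0)
    (hx : xOK a 0 xa = true ∧ xOK b 1 xb = true ∧ xOK c 1 xc = true ∧ xOK d 0 xd = true ∧
      xOK e 1 xe = true ∧ xOK a 1 xf = true ∧ xOK e (-1) xg = true ∧ xOK (-b) 0 xh = true)
    (hx1 : 1 + xa + xb + xc = 0) (hx2 : 1 + xd + xe + xf = 0) (hx3 : 1 + xa + xd + xg = 0)
    (hx5 : xa + xb - xf + xh = 0)
    (hw : 1 + (-2 * xa - 2 * xf : ℚ) / a + (-2 * xb + 2 * xh : ℚ) / b + (xc : ℚ) / c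
      + 4 * (xd : ℚ) / d + (xe + xg : ℚ) / e = 0)
    (hS : 1 - 2 * (1 / (a : ℚ)) + 2 * (1 / (b : ℚ)) - 1 / (c : ℚ) + 8 * (1 / (d : ℚ))
      + 2 * (1 / (e : ℚ)) = 648 / N)
    (hN : 1 + 2 * (a : ℚ) ^ 2 + 2 * (b : ℚ) ^ 2 + (c : ℚ) ^ 2 + (d : ℚ) ^ 2 + 2 * (e : ℚ) ^ 2 ≤ N) :
    False := by
  set Q := 1 + 2 * (a : ℚ) ^ 2 + 2 * (b : ℚ) ^ 2 + (c : ℚ) ^ 2 + (d : ℚ) ^ 2 + 2 * (e : ℚ) ^ 2
    with hQ
  have hN0 : 0 < N := lt_of_lt_of_le (by positivity) hN
  set S := 1 - 2 * (1 / (a : ℚ)) + 2 * (1 / (b : ℚ)) - 1 / (c : ℚ) + 8 * (1 / (d : ℚ))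
      + 2 * (1 / (e : ℚ)) with hSdef
  have hS' : S * N = 648 := by rw [hS, div_mul_cancel₀ _ hN0.ne']
  have hSpos : 0 < S := by rw [hS]; positivity
  have hmain : S * Q ≤ 648 := hS' ▸ mul_le_mul_of_nonneg_left hN hSpos.le
  have a5 : 1 / (a : ℚ) ≤ 1 / 5 := inv_le (by norm_num)
    (ha5.symm.imp (by omega) fun h => by exact_mod_cast h)
  have b14 : -(1 / (14 : ℚ)) ≤ 1 / (b : ℚ) := inv_ge (by norm_num)
    (hb13.imp (by omega) fun h => by exact_mod_cast h)
  have c8 : 1 / (c : ℚ) ≤ 1 / 8 := inv_le (by norm_num)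
    (hc8.symm.imp (by omega) fun h => by exact_mod_cast h)
  have d16 : -(1 / (16 : ℚ)) ≤ 1 / (d : ℚ) := inv_ge (by norm_num)
    (hd11.imp (by omega) fun h => by exact_mod_cast h)
  have e8 : -(1 / (8 : ℚ)) ≤ 1 / (e : ℚ) := inv_ge (by norm_num)
    (he10.imp (by omega) fun h => by exact_mod_cast h)
  have big : ∀ (x : ℤ) (m : ℤ), 0 < m → (m ≤ x ∨ x ≤ -m) →
      -(1 / (m : ℚ)) ≤ 1 / (x : ℚ) ∧ 1 / (x : ℚ) ≤ 1 / (m : ℚ) := by
    intro x m hm h
    have hm' : (0 : ℚ) < m := by exact_mod_cast hm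
    exact ⟨inv_ge hm' (h.imp (by omega) fun h => by exact_mod_cast h),
      inv_le hm' (h.symm.imp (by omega) fun h => by exact_mod_cast h)⟩
  have ha' : -60 ≤ a ∧ a ≤ 60 := by
    by_contra hcon
    have hbig : 61 ≤ a ∨ a ≤ -61 := by omega
    have h1 := (big a 61 (by norm_num) hbig).2
    have hbc : (30 ≤ b ∨ b ≤ -30) ∨ (30 ≤ c ∨ c ≤ -30) := by omega
    have hde : (30 ≤ d ∨ d ≤ -30) ∨ (30 ≤ e ∨ e ≤ -30) := by omega
    have k1 : -(2 / 10 : ℚ) ≤ 2 * (1 / (b : ℚ)) - 1 / (c : ℚ) := by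
      rcases hbc with h | h
      · have := (big b 30 (by norm_num) h).1; push_cast at this; linarith
      · have := (big c 30 (by norm_num) h).2; push_cast at this; linarith
    have k2 : -(57 / 100 : ℚ) ≤ 8 * (1 / (d : ℚ)) + 2 * (1 / (e : ℚ)) := by
      rcases hde with h | h
      · have := (big d 30 (by norm_num) h).1; push_cast at this; linarith
      · have := (big e 30 (by norm_num) h).1; push_cast at this; linarith
    push_cast at h1
    have hS1 : (19 / 100 : ℚ) ≤ S := by rw [hSdef]; linarith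
    have hsq : (3721 : ℚ) ≤ (a : ℚ) ^ 2 := by
      have : (3721 : ℤ) ≤ a ^ 2 := by rcases hbig with h | h <;> nlinarith
      exact_mod_cast this
    have : (7442 : ℚ) ≤ Q := by rw [hQ]; nlinarith
    nlinarith
  have hb' : -121 ≤ b ∧ b ≤ 121 := by
    by_contra hcon
    have hbig : 122 ≤ b ∨ b ≤ -122 := by omega
    have h1 := (big b 122 (by norm_num) hbig).1
    have h2 := (big c 61 (by norm_num) (by omega)).2
    push_cast at h1 h2
    have k : -(9 / 10 : ℚ) ≤ -(2 * (1 / (a : ℚ))) + 8 * (1 / (d : ℚ)) + 2 * (1 / (e : ℚ)) := by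
      by_cases hd0 : 0 < d
      · have : (0 : ℚ) < 1 / (d : ℚ) := div_pos one_pos (by exact_mod_cast hd0)
        linarith
      · by_cases he0 : 0 < e
        · have : (0 : ℚ) < 1 / (e : ℚ) := div_pos one_pos (by exact_mod_cast he0)
          linarith
        · have h23 : 23 ≤ a := by omega
          have := inv_le (x := a) (m := 23) (by norm_num) (Or.inr (by exact_mod_cast h23))
          linarith
    have hS1 : (6 / 100 : ℚ) ≤ S := by rw [hSdef]; linarith
    have hsq : (14884 : ℚ) ≤ (b : ℚ) ^ 2 := by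
      have : (14884 : ℤ) ≤ b ^ 2 := by rcases hbig with h | h <;> nlinarith
      exact_mod_cast this
    have : (29768 : ℚ) ≤ Q := by rw [hQ]; nlinarith
    nlinarith
  have hd' : -121 ≤ d ∧ d ≤ 121 := by
    by_contra hcon
    have hbig : 122 ≤ d ∨ d ≤ -122 := by omega
    have h1 := (big d 122 (by norm_num) hbig).1
    have h2 := (big e 61 (by norm_num) (by omega)).1
    push_cast at h1 h2
    have hS1 : (2 / 10 : ℚ) ≤ S := by rw [hSdef]; linarith
    have hsq : (14884 : ℚ) ≤ (d : ℚ) ^ 2 := by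
      have : (14884 : ℤ) ≤ d ^ 2 := by rcases hbig with h | h <;> nlinarith
      exact_mod_cast this
    have : (14884 : ℚ) ≤ Q := by rw [hQ]; nlinarith
    nlinarith
  have hma : a ∈ aList := by
    simp only [aList, List.mem_cons, List.not_mem_nil, or_false]; omega
  have hmb : b ∈ bList := by
    simp only [bList, List.mem_cons, List.not_mem_nil, or_false]; omega
  have hmd : d ∈ dList := by
    simp only [dList, List.mem_cons, List.not_mem_nil, or_false]; omega
  have hc : c = -1 - a - b := by omega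
  have he : e = -1 - d - a := by omega
  have h0 := checkThree_eq
  simp only [checkThree, List.all_eq_true] at h0
  have h1 := h0 a hma b hmb d hmd
  have a0 : (a : ℚ) ≠ 0 := by norm_cast; omega
  have b0 : (b : ℚ) ≠ 0 := by norm_cast; omega
  have c0 : (c : ℚ) ≠ 0 := by norm_cast; omega
  have d0 : (d : ℚ) ≠ 0 := by norm_cast; omega
  have e0 : (e : ℚ) ≠ 0 := by norm_cast; omega
  let P : ℚ := (a : ℚ) * b * c * d * e
  have hP : 0 < P ^ 2 := by positivity
  have hSP : S * P ^ 2 = (P - 2 * ((b : ℚ) * c * d * e) + 2 * ((a : ℚ) * c * d * e)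
      - (a : ℚ) * b * d * e + 8 * ((a : ℚ) * b * c * e) + 2 * ((a : ℚ) * b * c * d)) * P := by
    rw [hSdef]; simp only [P]; field_simp
  have hcand : candThree a b d = true := by
    have k1 := mul_le_mul_of_nonneg_right hmain hP.le
    have k2 : S * Q * P ^ 2 = S * P ^ 2 * Q := by ring
    rw [k2, hSP, hQ] at k1
    have k3 := mul_pos hSpos hP
    rw [hSP] at k3
    simp only [P] at k1 k3
    simp only [candThree, ← hc, ← he, Bool.and_eq_true, Bool.or_eq_true, decide_eq_true_eq]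
    refine ⟨⟨⟨hc8, he10⟩, ?_⟩, ?_⟩
    · exact_mod_cast k1
    · exact_mod_cast k3
  rw [hcand] at h1
  simp only [Bool.not_true, Bool.false_or, noX, List.all_eq_true, ← hc, ← he] at h1
  obtain ⟨ga, gb, gc, gd, ge, gf, gg, gh⟩ := hx
  have h2 := h1 xa (mem_xCands ga) xb (mem_xCands gb) xd (mem_xCands gd) xf (mem_xCands gf)
  rw [show -1 - xa - xb = xc by omega, show -1 - xd - xf = xe by omega,
    show -1 - xa - xd = xg by omega, show xf - xa - xb = xh by omega, gc, ge, gg, gh] at h2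
  simp only [Bool.true_and, Bool.not_eq_true', decide_eq_false_iff_not] at h2
  apply h2
  field_simp at hw
  have : ((a * b * c * d * e + (-2 * xa - 2 * xf) * (b * c * d * e)
      + (-2 * xb + 2 * xh) * (a * c * d * e) + xc * (a * b * d * e)
      + 4 * xd * (a * b * c * e) + (xe + xg) * (a * b * c * d) : ℤ) : ℚ) = 0 := by
    push_cast
    linear_combination hw
  exact_mod_cast this

theorem abs_three {δ : ℤ} (h : 3 ≤ δ ∨ δ ≤ -3) : (δ : ℚ) ≠ 0 := by
  norm_cast; omega

theorem RowOK.xOK {v : Vec} {δ x : ℤ} (h : RowOK v δ x) :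
    DihedralNine.xOK δ (valT v) x = true := by
  simp only [DihedralNine.xOK, Bool.and_eq_true, decide_eq_true_eq]
  exact ⟨⟨h.modThree, h.modFour⟩, h.small⟩

set_option maxHeartbeats 4000000 in
/-- No rows satisfy all relations. -/
theorem false_of_rows (rows : List (Vec × ℤ × ℤ)) (hshape : rows.map Prod.fst ∈ shapes)
    (hok : ∀ r ∈ rows, RowOK r.1 r.2.1 r.2.2)
    (hlin : ((1, 1, 1, 0) : Vec) + (rows.map fun r => r.2.1 • r.1).sum = 0)
    (hinv : ((1, 1, 1, 0) : Vec) + (rows.map fun r => r.2.2 • r.1).sum = 0)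
    (hdiff : (rows.map fun r =>
      ((valA r.1 * valB r.1 * (valA r.1 - valB r.1) : ℤ) : ℚ) / r.2.1).sum = 0)
    (hw : 1 + (rows.map fun r => ((r.2.2 * valA r.1 * valB r.1 : ℤ) : ℚ) / r.2.1).sum = 0)
    {N : ℕ} (hcount : 1 + (rows.map fun r =>
      ((valA r.1 * valA r.1 * valB r.1 : ℤ) : ℚ) / r.2.1).sum = 648 / N)
    (hsq : 1 + (rows.map fun r => r.2.1 * r.2.1).sum ≤ (N : ℤ)) : False := by
  have hsqQ : ((1 + (rows.map fun r => r.2.1 * r.2.1).sum : ℤ) : ℚ) ≤ (N : ℚ) := by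
    exact_mod_cast hsq
  simp only [shapes, List.mem_cons, List.not_mem_nil, or_false, List.map_eq_cons_iff,
    List.map_eq_nil_iff] at hshape
  rcases hshape with h | h | h | h | h | h
  · -- first shape
    obtain ⟨⟨_, δA, xA⟩, _, rfl, rfl, ⟨_, δb, xb⟩, _, rfl, rfl, ⟨_, δc, xc⟩, _, rfl, rfl,
      ⟨_, δd, xd⟩, _, rfl, rfl, ⟨_, δe, xe⟩, _, rfl, rfl, ⟨_, δf, xf⟩, _, rfl, rfl,
      ⟨_, δg, xg⟩, _, rfl, rfl, rfl⟩ := h
    simp only [List.forall_mem_cons] at hok
    obtain ⟨-, hb, hc, -, -, hf, -⟩ := hok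
    have e1 := hb.modNine; have e2 := hc.modNine; have e3 := hf.modNine
    simp only [valA, valB] at e1 e2 e3
    have b0 := abs_three hb.three_le; have c0 := abs_three hc.three_le
    have f0 := abs_three hf.three_le
    refine no_four_four_five (b := δb) (c := δc) (f := δf) (by omega) (by omega) (by omega) ?_
    norm_num [valA, valB] at hdiff
    field_simp at hdiff
    have : ((δc * δf + δb * δf - δb * δc : ℤ) : ℚ) = 0 := by
      push_cast; linarith
    exact_mod_cast this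
  · -- second shape
    obtain ⟨⟨_, δa, xa⟩, _, rfl, rfl, ⟨_, δb, xb⟩, _, rfl, rfl, ⟨_, δc, xc⟩, _, rfl, rfl,
      ⟨_, δd, xd⟩, _, rfl, rfl, ⟨_, δe, xe⟩, _, rfl, rfl, ⟨_, δf, xf⟩, _, rfl, rfl,
      ⟨_, δg, xg⟩, _, rfl, rfl, rfl⟩ := h
    simp only [List.forall_mem_cons] at hok
    obtain ⟨ha, hb, hc, -⟩ := hok
    have a0 := abs_three ha.three_le; have b0 := abs_three hb.three_le
    have hab : δa + δb = 0 := by
      norm_num [valA, valB] at hdiff
      field_simp at hdiff
      have : ((δa + δb : ℤ) : ℚ) = 0 := by push_cast; linarith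
      exact_mod_cast this
    simp [Prod.ext_iff] at hlin
    have := hc.three_le
    omega
  · -- third shape
    obtain ⟨⟨_, δa, xa⟩, _, rfl, rfl, ⟨_, δb, xb⟩, _, rfl, rfl, ⟨_, δc, xc⟩, _, rfl, rfl,
      ⟨_, δd, xd⟩, _, rfl, rfl, ⟨_, δe, xe⟩, _, rfl, rfl, ⟨_, δf, xf⟩, _, rfl, rfl,
      ⟨_, δg, xg⟩, _, rfl, rfl, ⟨_, δh, xh⟩, _, rfl, rfl, rfl⟩ := h
    simp only [List.forall_mem_cons] at hok
    obtain ⟨ha, hb, hc, hd, he, hf, hg, hh, -⟩ := hok
    simp [Prod.ext_iff] at hlin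
    simp [Prod.ext_iff] at hinv
    have a0 := abs_three ha.three_le; have b0 := abs_three hb.three_le
    have f0 := abs_three hf.three_le; have h0 := abs_three hh.three_le
    have ma := ha.modNine; have mb := hb.modNine; have mc := hc.modNine; have md := hd.modNine
    have me := he.modNine; have mf := hf.modNine
    simp only [valA, valB] at ma mb mc md me mf
    have k : δb * δf * δh + δa * δf * δh - δa * δb * δh + δa * δb * δf = 0 := by
      norm_num [valA, valB] at hdiff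
      field_simp at hdiff
      have : ((δb * δf * δh + δa * δf * δh - δa * δb * δh + δa * δb * δf : ℤ) : ℚ) = 0 := by
        push_cast; linarith
      exact_mod_cast this
    have hc3 := hc.three_le
    have hh' : δh = δf - δa - δb := by omega
    have hfa : δf = δa ∧ δh = -δb := by
      have : (δa + δb) * ((δf - δa) * (δf - δb)) = 0 := by subst hh'; linear_combination k
      rcases mul_eq_zero.1 this with h | h
      · omega
      · rcases mul_eq_zero.1 h with h | h <;> omega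
    obtain ⟨rfl, rfl⟩ := hfa
    have hge : δg = δe := by omega
    subst hge
    have t1 := sign_cases ha.triv; have t2 := sign_cases ha.axis; have t3 := sign_cases ha.diag
    have u1 := sign_cases hd.triv; have u2 := sign_cases hd.axis
    have w1 := sign_cases hc.triv; have v1 := sign_cases he.triv; have v2 := sign_cases he.axis
    simp only [valA, valB] at t1 t2 t3 u1 u2 w1 v1 v2
    have a3 := ha.three_le; have b3 := hb.three_le; have d3 := hd.three_le; have e3 := he.three_le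
    have q1 := hb.modThree; have q2 := hb.modFour; have q3 := hb.small
    simp only [valT] at q1
    norm_num [valA, valB] at hw hcount hsqQ
    refine shape_three_false (a := δf) (b := δb) (c := δc) (d := δd) (e := δg) (xa := xa)
      (xb := xb) (xc := xc) (xd := xd) (xe := xe) (xf := xf) (xg := xg) (xh := xh) (N := N)
      (by omega) (by omega) (by omega) (by omega) (by omega) (by omega) (by omega) (by omega)
      (by omega) (by omega) ⟨ha.xOK, hb.xOK, hc.xOK, hd.xOK, he.xOK, hf.xOK, hg.xOK, hh.xOK⟩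
      (by omega) (by omega) (by omega) (by omega) ?_ ?_ ?_
    · rw [← hw]; push_cast; ring
    · rw [← hcount]; push_cast; ring
    · push_cast at hsqQ ⊢; linarith
  · -- fourth shape
    obtain ⟨⟨_, δA, xA⟩, _, rfl, rfl, ⟨_, δb, xb⟩, _, rfl, rfl, ⟨_, δc, xc⟩, _, rfl, rfl,
      ⟨_, δd, xd⟩, _, rfl, rfl, ⟨_, δe, xe⟩, _, rfl, rfl, ⟨_, δg, xg⟩, _, rfl, rfl,
      ⟨_, δh, xh⟩, _, rfl, rfl, rfl⟩ := h
    simp only [List.forall_mem_cons] at hok
    obtain ⟨-, hb, -, -, -, hg, hh, -⟩ := hok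
    have e1 := hb.modNine; have e2 := hg.modNine; have e3 := hh.modNine
    simp only [valA, valB] at e1 e2 e3
    have b0 := abs_three hb.three_le; have g0 := abs_three hg.three_le
    have h0 := abs_three hh.three_le
    refine no_three_five (b := δb) (g := δg) (h := δh) (by omega) (by omega) (by omega) ?_
    norm_num [valA, valB] at hdiff
    field_simp at hdiff
    have : ((δb * δg + δb * δh + δg * δh : ℤ) : ℚ) = 0 := by
      push_cast; linarith
    exact_mod_cast this
  · -- fifth shape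
    obtain ⟨⟨_, δA, xA⟩, _, rfl, rfl, ⟨_, δb, xb⟩, _, rfl, rfl, ⟨_, δC, xC⟩, _, rfl, rfl,
      ⟨_, δe, xe⟩, _, rfl, rfl, ⟨_, δg, xg⟩, _, rfl, rfl, ⟨_, δf, xf⟩, _, rfl, rfl,
      ⟨_, δh, xh⟩, _, rfl, rfl, rfl⟩ := h
    simp only [List.forall_mem_cons] at hok
    obtain ⟨hA, hb, hC, he, -, -, hh, -⟩ := hok
    have b0 := abs_three hb.three_le; have h0 := abs_three hh.three_le
    have hbh : δh = -δb := by
      norm_num [valA, valB] at hdiff
      field_simp at hdiff
      have : ((δh + δb : ℤ) : ℚ) = 0 := by push_cast; linarith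
      have : δh + δb = 0 := by exact_mod_cast this
      omega
    subst hbh
    simp [Prod.ext_iff] at hlin
    have hgC : δg = -δC := by omega
    have hfe : δf = δe := by omega
    subst hgC hfe
    have m1 := hA.modNine; have m2 := hb.modNine; have m4 := he.modNine
    have q1 := hb.modThree; have q2 := hb.modFour; have q3 := hb.small
    have s1 := sign_cases hC.diag; have s2 := sign_cases hC.triv
    have a3 := hA.three_le; have b3 := hb.three_le; have e3 := he.three_le
    simp only [valA, valB, valT] at m1 m2 m4 q1 s1 s2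
    norm_num [valA, valB] at hcount hsqQ
    refine shape_five_false (A := δA) (b := δb) (C := δC) (e := δf) (N := N)
      (by omega) (by omega) (by omega) (by omega) (by omega) (by omega) (by omega)
      (by omega) (by omega) ?_ ?_
    · rw [← hcount]; push_cast; ring
    · push_cast at hsqQ ⊢; linarith
  · -- sixth shape
    obtain ⟨⟨_, δA, xA⟩, _, rfl, rfl, ⟨_, δB, xB⟩, _, rfl, rfl, ⟨_, δC, xC⟩, _, rfl, rfl,
      ⟨_, δD, xD⟩, _, rfl, rfl, ⟨_, δe, xe⟩, _, rfl, rfl, ⟨_, δf, xf⟩, _, rfl, rfl,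
      ⟨_, δG, xG⟩, _, rfl, rfl, rfl⟩ := h
    simp only [List.forall_mem_cons] at hok
    obtain ⟨-, hB, -, hD, -, -, hG, -⟩ := hok
    have d0 := abs_three hD.three_le; have g0 := abs_three hG.three_le
    have hDG : δD = δG := by
      norm_num [valA, valB] at hdiff
      field_simp at hdiff
      have : ((δD : ℤ) : ℚ) = (δG : ℚ) := by linarith
      exact_mod_cast this
    simp [Prod.ext_iff] at hlin
    have := hB.three_le
    omega

end Cfsg.Agent.Lib.Characters.DihedralNine
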