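import Cfsg.Agent.Lib.Characters.DihedralNine.Local
import Cfsg.Agent.Lib.Characters.DihedralNine.Arith
import Cfsg.Agent.Lib.Characters.Order7920.Values
import Cfsg.Agent.Lib.Characters.Convolution
import Cfsg.Agent.Lib.Characters.Coherence

/-!
# The characters in the configuration `3² : D₈`
-/

set_option autoImplicit false
set_option linter.unusedSectionVars false

namespace Cfsg.Agent.Lib.Characters.DihedralNine

open scoped ComplexConjugate
open Cfsg Cfsg.Agent.Lib.Characters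

universe u

variable {G : Type u} [Group G] [Finite G]

theorem sum_three {α : Type*} [AddCommMonoid α] (f : ZMod 3 → α) :
    ∑ i, f i = f 0 + f 1 + f 2 := Fin.sum_univ_three f

theorem sum_two {α : Type*} [AddCommMonoid α] (f : ZMod 2 → α) :
    ∑ i, f i = f 0 + f 1 := Fin.sum_univ_two f

theorem pow_val_mul_eq {K : Type*} [Monoid K] {p : ℕ} [NeZero p] {u : K} (hu : u ^ p = 1)
    (i j : ZMod p) : u ^ (i + j).val = u ^ i.val * u ^ j.val := by
  rw [ZMod.val_add, ← pow_eq_pow_mod _ hu, pow_add]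

/-- The multiplicity of a pair of eigenvalues of two commuting elements. -/
theorem exists_mult_pair {χ : G → ℂ} (hχ : IsCharacter G χ) {x y : G} {p q : ℕ} [NeZero p]
    [NeZero q] (hc : Commute x y) (hx : x ^ p = 1) (hy : y ^ q = 1) {ω η : ℂ} (hω : ω ^ p = 1)
    (hη : η ^ q = 1) :
    ∃ k : ℕ, ∑ z : ZMod p × ZMod q, χ (x ^ z.1.val * y ^ z.2.val) * (ω ^ z.1.val * η ^ z.2.val) =
      (p : ℂ) * q * k := by
  let f : Multiplicative (ZMod p × ZMod q) →* G := MonoidHom.mk'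
    (fun z => x ^ z.toAdd.1.val * y ^ z.toAdd.2.val) fun z w => by
      simp only [toAdd_mul, Prod.fst_add, Prod.snd_add, pow_val_mul_eq hx, pow_val_mul_eq hy]
      rw [mul_assoc, ← mul_assoc (x ^ w.toAdd.1.val), (hc.pow_pow _ _).eq]
      simp only [mul_assoc]
  have hω' : (conj ω) ^ p = 1 := by rw [← map_pow, hω, map_one]
  have hη' : (conj η) ^ q = 1 := by rw [← map_pow, hη, map_one]
  let lam : Multiplicative (ZMod p × ZMod q) →* ℂ :=
    { toFun := fun z => conj ω ^ z.toAdd.1.val * conj η ^ z.toAdd.2.val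
      map_one' := by simp
      map_mul' := fun z w => by
        simp only [toAdd_mul, Prod.fst_add, Prod.snd_add, pow_val_mul_eq hω', pow_val_mul_eq hη']
        ring }
  obtain ⟨k, hk⟩ := IsCharacter.exists_classInner_nat (IsCharacter.comp hχ f)
    (IsIrrCharacter.isCharacter (isIrrCharacter_monoidHom lam))
  refine ⟨k, ?_⟩
  rw [← hk, classInner, Nat.card_congr (Multiplicative.toAdd), Nat.card_prod, Nat.card_zmod,
    Nat.card_zmod, Nat.cast_mul, ← mul_assoc,
    mul_inv_cancel₀ (mul_ne_zero (NeZero.ne _) (NeZero.ne _)), one_mul]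
  refine Fintype.sum_equiv Multiplicative.ofAdd _ _ fun z => ?_
  simp [f, lam]

/-- A primitive cube root of unity. -/
theorem exists_omega : ∃ ω : ℂ, ω ^ 3 = 1 ∧ 1 + ω + ω ^ 2 = 0 := by
  have h := Complex.isPrimitiveRoot_exp 3 (by norm_num)
  refine ⟨_, h.pow_eq_one, ?_⟩
  have := h.geom_sum_eq_zero (by norm_num)
  simpa [Finset.sum_range_succ] using this

theorem int_dvd_of_cast_eq {s : ℤ} {m k : ℕ} (h : (s : ℂ) = (m : ℂ) * k) :
    (m : ℤ) ∣ s ∧ 0 ≤ s := by
  have : s = (m : ℤ) * k := by exact_mod_cast h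
  exact ⟨⟨_, this⟩, this ▸ by positivity⟩

theorem one_val_three : (1 : ZMod 3).val = 1 := rfl
theorem two_val_three : (2 : ZMod 3).val = 2 := rfl
theorem one_val_two : (1 : ZMod 2).val = 1 := rfl

variable [IsSimpleGroup G] {M : Sylow 3 G} {a R T : G}

theorem exists_ne_apply {χ : G → ℂ} (hχ : IsIrrCharacter G χ) (hne : χ ≠ fun _ => 1) :
    ∃ g, χ g ≠ χ 1 := IsIrrCharacter.exists_ne_apply_one hχ hne

/-- The values of one half. -/
theorem half_value (h : Half M a R T) {χ : G → ℂ} (hχ : IsIrrCharacter G χ)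
    (hne : χ ≠ fun _ => 1) {d : ℕ} (hd : χ 1 = d) {X : ℤ} (hX : χ T = X) :
    ∃ A U : ℤ, χ a = A ∧ χ (a * T) = U ∧ (3 : ℤ) ∣ A - d ∧ A ≠ d ∧
      (6 : ℤ) ∣ (d : ℤ) - A + X - U := by
  have hc := IsIrrCharacter.isCharacter hχ
  have ha := h.ctx.cube a h.mem
  have cls : ∀ {x y : G}, IsConj x y → χ y = χ x := fun hxy => by
    obtain ⟨g, rfl⟩ := isConj_iff.1 hxy
    exact IsCharacter.conj_apply hc _ _
  haveI : Fact (Nat.Prime 3) := ⟨Nat.prime_three⟩
  have ha2 : χ (a ^ 2) = χ a := by rw [inv_eq_sq ha]; exact cls h.isConj_inv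
  obtain ⟨A, hA, hdvd⟩ := Order7920.rational_value hc (p := 3) ha (fun k hk0 hk3 => by
    interval_cases k
    · rw [pow_one]
    · exact ha2) hd
  have hAd : A ≠ d := fun e => h.ne (IsCharacter.eq_one_of_isSimpleGroup hc
    (exists_ne_apply hχ hne) (by rw [hA, hd, e, Int.cast_natCast]))
  obtain ⟨ω, hω, hω0⟩ := exists_omega
  obtain ⟨k, hk⟩ := exists_mult_pair hc (p := 3) (q := 2) h.comm_t ha
    (by rw [pow_two, h.tt]) hω (η := 1) (one_pow 2)
  rw [Fintype.sum_prod_type, sum_three] at hk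
  simp only [sum_two, ZMod.val_zero, one_val_three, two_val_three, one_val_two, pow_zero,
    pow_one, one_mul, mul_one, hd, hX, hA, ha2] at hk
  have hU2 : χ (a ^ 2 * T) = χ (a * T) := by
    refine (congrArg χ ?_).trans (cls h.isConj_t_inv)
    rw [inv_eq_sq ha, mul_inv_rev, h.tinv]
    exact h.comm_t.inv_left.eq
  rw [hU2] at hk
  push_cast at hk
  have hU : χ (a * T) = (((d : ℤ) - A + X - 6 * k : ℤ) : ℂ) := by
    push_cast
    linear_combination ((A : ℂ) + χ (a * T)) * hω0 - hk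
  exact ⟨A, _, hA, hU, hdvd, hAd, ⟨(k : ℤ), by ring⟩⟩

/-- The multiplicities on `M`. -/
theorem nine_value (h : Half M a R T) {χ : G → ℂ} (hc : IsCharacter G χ) {d : ℕ}
    (hd : χ 1 = d) {A B : ℤ} (hA : χ a = A) (hB : χ (a * rot R a) = B) :
    ((9 : ℤ) ∣ d + 4 * A + 4 * B ∧ 0 ≤ (d : ℤ) + 4 * A + 4 * B) ∧
      0 ≤ (d : ℤ) + A - 2 * B ∧ 0 ≤ (d : ℤ) - 2 * A + B := by
  set b := rot R a with hb
  have cls : ∀ {x y : G}, IsConj x y → χ y = χ x := fun hxy => by
    obtain ⟨g, rfl⟩ := isConj_iff.1 hxy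
    exact IsCharacter.conj_apply hc _ _
  have ha := h.ctx.cube a h.mem
  have hb3 := h.ctx.cube b h.rot_mem
  have v1 : χ (a ^ 2) = A := by rw [inv_eq_sq ha, cls h.isConj_inv, hA]
  have v2 : χ b = A := by rw [cls h.isConj_rot, hA]
  have v3 : χ (b ^ 2) = A := by
    rw [inv_eq_sq hb3, cls (h.isConj_of_orb (Or.inr (Or.inr (Or.inr rfl)))), hA]
  have e2 : rot R (a * b) = a ^ 2 * b := by
    have e : rot R (a * b) = pp a b (-1, 1) := by rw [← h.rot_pp 1 1, ← h.mul_rot_eq]; rfl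
    rw [e]; simp [pp, one_val_three, show (-1 : ZMod 3).val = 2 from rfl]
  have hcom : Commute a b := h.ctx.comm _ h.mem _ h.rot_mem
  have v5 : χ (a ^ 2 * b) = B := by rw [← e2, cls h.second.isConj_rot, hB]
  have v6 : χ (a ^ 2 * b ^ 2) = B := by
    rw [← hB, ← cls h.second.isConj_inv, mul_inv_rev, ← hb, ← inv_eq_sq ha, ← inv_eq_sq hb3,
      (hcom.pow_pow 2 2).eq]
  have v7 : χ (a * b ^ 2) = B := by
    rw [← hB, ← cls (h.second.isConj_of_orb (Or.inr (Or.inr (Or.inr rfl)))), ← hb, e2,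
      mul_inv_rev, inv_eq_sq ha, inv_inv, inv_eq_sq hb3]
    exact congrArg χ (hcom.inv_right.eq)
  obtain ⟨ω, hω, hω0⟩ := exists_omega
  haveI : Fact (Nat.Prime 3) := ⟨Nat.prime_three⟩
  have key : ∀ {θ η : ℂ}, θ ^ 3 = 1 → η ^ 3 = 1 → ∃ k : ℕ,
      (d : ℂ) + A * (θ + θ ^ 2 + η + η ^ 2) + B * ((θ + θ ^ 2) * (η + η ^ 2)) =
        (3 : ℂ) * 3 * k := by
    intro θ η hθ hη
    obtain ⟨k, hk⟩ := exists_mult_pair hc (p := 3) (q := 3) hcom ha hb3 hθ hη
    rw [Fintype.sum_prod_type, sum_three] at hk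
    simp only [sum_three, ZMod.val_zero, one_val_three, two_val_three, pow_zero, pow_one, one_mul,
      mul_one, hd, hA, hB, v1, v2, v3, v5, v6, v7] at hk
    refine ⟨k, ?_⟩
    push_cast at hk
    linear_combination hk
  obtain ⟨k1, h1⟩ := key (one_pow 3) (one_pow 3)
  obtain ⟨k2, h2⟩ := key hω (one_pow 3)
  obtain ⟨k3, h3⟩ := key hω hω
  have hww : ω + ω ^ 2 = -1 := by linear_combination hω0
  refine ⟨int_dvd_of_cast_eq (m := 9) (k := k1) ?_, (int_dvd_of_cast_eq (m := 9) (k := k2) ?_).2,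
    (int_dvd_of_cast_eq (m := 9) (k := k3) ?_).2⟩
  · push_cast; linear_combination h1
  · rw [hww] at h2; push_cast; linear_combination h2
  · rw [show ω + ω ^ 2 + ω + ω ^ 2 = (ω + ω ^ 2) + (ω + ω ^ 2) by ring, hww] at h3
    push_cast; linear_combination h3

theorem card_class (g : G) :
    Nat.card {x : G // IsConj g x} * Nat.card (Subgroup.centralizer ({g} : Set G)) =
      Nat.card G := by
  classical
  haveI := Fintype.ofFinite G
  rw [Subgroup.nat_card_centralizer_nat_card_stabilizer,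
    ← Nat.card_congr (Equiv.subtypeEquivRight (p := fun x => x ∈ MulAction.orbit (ConjAct G) g)
      (q := fun x => IsConj g x) fun x => by
        rw [ConjAct.mem_orbit_conjAct]; exact isConj_comm),
    ← Nat.card_prod]
  exact Nat.card_congr ((MulAction.orbitProdStabilizerEquivGroup (ConjAct G) g).trans
    ConjAct.ofConjAct.toEquiv)

section Sums

variable [Fintype (IrrCharacter G)]

/-- Column orthogonality for integer values. -/
theorem col_sum {u : IrrCharacter G → ℤ} {w : IrrCharacter G → ℤ} {g k : G}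
    (hu : ∀ χ : IrrCharacter G, (χ : G → ℂ) g = u χ)
    (hw : ∀ χ : IrrCharacter G, (χ : G → ℂ) k = w χ) {m : ℕ}
    (h : (IsConj g k ∧ Nat.card (Subgroup.centralizer ({g} : Set G)) = m) ∨
      (¬ IsConj g k ∧ m = 0)) : ∑ χ, u χ * w χ = m := by
  classical
  have e := sum_irr_mul_conj g k
  simp only [hu, hw, map_intCast] at e
  have e' : ((∑ χ, u χ * w χ : ℤ) : ℂ) = (m : ℂ) := by
    push_cast
    rw [e]
    rcases h with ⟨h1, h2⟩ | ⟨h1, h2⟩
    · rw [if_pos h1, h2]
    · rw [if_neg h1, h2, Nat.cast_zero]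
  exact_mod_cast e'

/-- The numbers attached to a character. -/
structure Vals (a a' t t' T : G) (χ : G → ℂ) (d : ℕ) (A B U V X : ℤ) : Prop where
  one : χ 1 = d
  hA : χ a = A
  hB : χ a' = B
  hU : χ t = U
  hV : χ t' = V
  hX : χ T = X

/-- A column of coordinates in the exceptional lattice. -/
def col (A B U V : ℤ) : Vec :=
  ((A - B + 3 * U + 3 * V) / 6, (A + 2 * B + 3 * U) / 6, (2 * A + B + 3 * V) / 6, (A - B) / 3)

theorem valA_smul (σ : ℤ) (c : Vec) : valA (σ • c) = σ * valA c := by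
  obtain ⟨p, q, r, s⟩ := c; simp [valA]; ring

theorem valB_smul (σ : ℤ) (c : Vec) : valB (σ • c) = σ * valB c := by
  obtain ⟨p, q, r, s⟩ := c; simp [valB]; ring

theorem valT_smul (σ : ℤ) (c : Vec) : valT (σ • c) = σ * valT c := by
  obtain ⟨p, q, r, s⟩ := c; simp [valT]; ring

theorem outer_smul {σ : ℤ} (hσ : σ * σ = 1) (c : Vec) : outer (σ • c) = outer c := by
  obtain ⟨p, q, r, s⟩ := c
  simp only [outer, Prod.smul_mk, smul_eq_mul, Prod.mk.injEq]
  exact ⟨⟨by linear_combination p * p * hσ, by linear_combination p * q * hσ,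
      by linear_combination p * r * hσ, by linear_combination p * s * hσ⟩,
    ⟨by linear_combination q * q * hσ, by linear_combination q * r * hσ,
      by linear_combination q * s * hσ⟩,
    ⟨by linear_combination r * r * hσ, by linear_combination r * s * hσ⟩,
    by linear_combination s * s * hσ⟩

theorem abs_le_one {x : ℤ} (h : x * x ≤ 3) : x ∈ ([-1, 0, 1] : List ℤ) := by
  have h1 : -1 ≤ x := by nlinarith
  have h2 : x ≤ 1 := by nlinarith
  simp only [List.mem_cons, List.not_mem_nil, or_false]; omega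

theorem abs_le_two {x : ℤ} (h : x * x ≤ 4) : x = -2 ∨ x = 2 ∨ x ∈ ([-1, 0, 1] : List ℤ) := by
  have h1 : -2 ≤ x := by nlinarith
  have h2 : x ≤ 2 := by nlinarith
  simp only [List.mem_cons, List.not_mem_nil, or_false]; omega

set_option maxHeartbeats 3000000 in
/-- The configuration is incompatible with simplicity. -/
theorem false_of_half (h : Half M a R T) : False := by
  classical
  haveI : Fintype G := Fintype.ofFinite G
  have hG : ¬ IsMulCommutative G := fun hc => by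
    have := h.neg
    rw [mul_comm' (R * R) a, mul_inv_cancel_right] at this
    exact h.ne (eq_one_of_sq (h.ctx.cube a h.mem) this)
  have h' := h.second
  set a' := a * rot R a with ha'
  -- the values
  have hval : ∀ χ : IrrCharacter G, χ ≠ trivIrr G → ∃ (A B U V X : ℤ),
      Vals a a' (a * T) (a' * (R * T)) T (χ : G → ℂ) (degNat χ) A B U V X ∧
        RowOK (col A B U V) (degNat χ) X ∧ valA (col A B U V) = A ∧ valB (col A B U V) = B ∧
        valT (col A B U V) = U ∧ 6 * (col A B U V).1 = A - B + 3 * U + 3 * V ∧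
        6 * (col A B U V).2.1 = A + 2 * B + 3 * U ∧
        6 * (col A B U V).2.2.1 = 2 * A + B + 3 * V ∧ 3 * (col A B U V).2.2.2 = A - B := by
    intro χ hne
    have hne' : (χ : G → ℂ) ≠ fun _ => 1 := fun e => hne (Subtype.ext e)
    have hd := apply_one_eq_degNat χ
    obtain ⟨m, hm2, hm0, hmd, hX⟩ := Order7920.involution_value hG χ.2 hne' hd h.order_two
    obtain ⟨m', hm2', hm0', hmd', hX'⟩ :=
      Order7920.involution_value hG χ.2 hne' hd h'.order_two
    set X : ℤ := (degNat χ : ℤ) - 2 * (m : ℤ) with hXdef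
    set X' : ℤ := (degNat χ : ℤ) - 2 * (m' : ℤ) with hX'def
    obtain ⟨A, U, hA, hU, hA3, hAd, h6⟩ := half_value h χ.2 hne' hd hX
    obtain ⟨B, V, hB, hV, hB3, hBd, h6'⟩ := half_value h' χ.2 hne' hd hX'
    obtain ⟨⟨h9, h90⟩, h91, h92⟩ := nine_value h (irr_isCharacter χ) hd hA hB
    obtain ⟨e, he⟩ := hm2
    obtain ⟨e', he'⟩ := hm2'
    have k1 : 6 * (col A B U V).1 = A - B + 3 * U + 3 * V := by simp only [col]; omega
    have k2 : 6 * (col A B U V).2.1 = A + 2 * B + 3 * U := by simp only [col]; omega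
    have k3 : 6 * (col A B U V).2.2.1 = 2 * A + B + 3 * V := by simp only [col]; omega
    have k4 : 3 * (col A B U V).2.2.2 = A - B := by simp only [col]; omega
    have wA : valA (col A B U V) = A := by
      simp only [valA, col] at k1 k2 k3 k4 ⊢; omega
    have wB : valB (col A B U V) = B := by
      simp only [valB, col] at k1 k2 k3 k4 ⊢; omega
    have wT : valT (col A B U V) = U := by
      simp only [valT, col] at k1 k2 k3 k4 ⊢; omega
    refine ⟨A, B, U, V, X, ⟨hd, hA, hB, hU, hV, hX⟩, ?_, wA, wB, wT, k1, k2, k3, k4⟩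
    refine ⟨Or.inl (by omega), by rw [wA, wB]; omega, ?_, ?_, ?_, by rw [wA]; exact hAd,
      by rw [wB]; exact hBd, by rw [wT]; omega, by omega, by omega⟩
    · rw [wA, wB]; exact mul_nonneg (Int.natCast_nonneg _) h90
    · rw [wA, wB]; exact mul_nonneg (Int.natCast_nonneg _) h91
    · rw [wA, wB]; exact mul_nonneg (Int.natCast_nonneg _) h92
  have hall : ∀ χ : IrrCharacter G, ∃ (A B U V X : ℤ),
      Vals a a' (a * T) (a' * (R * T)) T (χ : G → ℂ) (degNat χ) A B U V X ∧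
        (χ ≠ trivIrr G → RowOK (col A B U V) (degNat χ) X) ∧ valA (col A B U V) = A ∧
        valB (col A B U V) = B ∧ 6 * (col A B U V).1 = A - B + 3 * U + 3 * V ∧
        6 * (col A B U V).2.1 = A + 2 * B + 3 * U ∧
        6 * (col A B U V).2.2.1 = 2 * A + B + 3 * V ∧ 3 * (col A B U V).2.2.2 = A - B := by
    intro χ
    by_cases hne : χ = trivIrr G
    · subst hne
      refine ⟨1, 1, 1, 1, 1, ⟨apply_one_eq_degNat _, ?_, ?_, ?_, ?_, ?_⟩,
        fun h => absurd rfl h, by decide, by decide, by decide, by decide, by decide, by decide⟩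
      all_goals simp
    · obtain ⟨A, B, U, V, X, p1, p2, p3, p4, -, p5⟩ := hval χ hne
      exact ⟨A, B, U, V, X, p1, fun _ => p2, p3, p4, p5⟩
  choose A B U V X hv hok wA wB k1 k2 k3 k4 using hall
  have hn : ∀ χ : IrrCharacter G, (χ : G → ℂ) 1 = ((degNat χ : ℤ) : ℂ) := fun χ => by
    rw [(hv χ).one, Int.cast_natCast]
  have t0 : trivIrr G ∈ (Finset.univ : Finset (IrrCharacter G)) := Finset.mem_univ _
  have ones : A (trivIrr G) = 1 ∧ B (trivIrr G) = 1 ∧ U (trivIrr G) = 1 ∧ V (trivIrr G) = 1 ∧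
      X (trivIrr G) = 1 ∧ (degNat (trivIrr G) : ℤ) = 1 := by
    have := hv (trivIrr G)
    obtain ⟨e1, e2, e3, e4, e5, e6⟩ := this
    simp only [trivIrr_apply] at e1 e2 e3 e4 e5 e6
    exact ⟨by exact_mod_cast e2.symm, by exact_mod_cast e3.symm, by exact_mod_cast e4.symm,
      by exact_mod_cast e5.symm, by exact_mod_cast e6.symm, by exact_mod_cast e1.symm⟩
  -- orthogonality
  have ni : ∀ {g k : G}, ¬ IsConj g k → ¬ IsConj k g := fun hgk e => hgk e.symm
  have one_ne : ∀ {k : G}, k ≠ 1 → ¬ IsConj (1 : G) k := fun hk e => hk (isConj_one_right.1 e)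
  have t_ne1 : ∀ {x y S : G}, Half M x y S → x * S ≠ 1 := fun hh e => hh.ne (by
    rw [← hh.pow_four, e, one_pow])
  have inv1 := h.not_conj_invol (i := T) h.tt
  have inv2 := h'.not_conj_invol (i := T) h.tt
  have sAA := col_sum (fun χ => (hv χ).hA) (fun χ => (hv χ).hA) (m := 18)
    (Or.inl ⟨IsConj.refl _, h.card_centralizer⟩)
  have sBB := col_sum (fun χ => (hv χ).hB) (fun χ => (hv χ).hB) (m := 18)
    (Or.inl ⟨IsConj.refl _, h'.card_centralizer⟩)
  have sUU := col_sum (fun χ => (hv χ).hU) (fun χ => (hv χ).hU) (m := 6)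
    (Or.inl ⟨IsConj.refl _, h.card_centralizer_t⟩)
  have sVV := col_sum (fun χ => (hv χ).hV) (fun χ => (hv χ).hV) (m := 6)
    (Or.inl ⟨IsConj.refl _, h'.card_centralizer_t⟩)
  have sAB := col_sum (fun χ => (hv χ).hA) (fun χ => (hv χ).hB) (m := 0)
    (Or.inr ⟨h.not_conj_mul, rfl⟩)
  have sAU := col_sum (fun χ => (hv χ).hA) (fun χ => (hv χ).hU) (m := 0)
    (Or.inr ⟨h.not_conj_a_t, rfl⟩)
  have sAV := col_sum (fun χ => (hv χ).hA) (fun χ => (hv χ).hV) (m := 0)
    (Or.inr ⟨h.not_conj_a_cross, rfl⟩)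
  have sBU := col_sum (fun χ => (hv χ).hB) (fun χ => (hv χ).hU) (m := 0)
    (Or.inr ⟨h.not_conj_cross_a, rfl⟩)
  have sBV := col_sum (fun χ => (hv χ).hB) (fun χ => (hv χ).hV) (m := 0)
    (Or.inr ⟨h'.not_conj_a_t, rfl⟩)
  have sUV := col_sum (fun χ => (hv χ).hU) (fun χ => (hv χ).hV) (m := 0)
    (Or.inr ⟨h.not_conj_cross, rfl⟩)
  have snA := col_sum hn (fun χ => (hv χ).hA) (m := 0) (Or.inr ⟨one_ne h.ne, rfl⟩)
  have snB := col_sum hn (fun χ => (hv χ).hB) (m := 0) (Or.inr ⟨one_ne h'.ne, rfl⟩)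
  have snU := col_sum hn (fun χ => (hv χ).hU) (m := 0) (Or.inr ⟨one_ne (t_ne1 h), rfl⟩)
  have snV := col_sum hn (fun χ => (hv χ).hV) (m := 0) (Or.inr ⟨one_ne (t_ne1 h'), rfl⟩)
  have sxA := col_sum (fun χ => (hv χ).hX) (fun χ => (hv χ).hA) (m := 0) (Or.inr ⟨inv1.1, rfl⟩)
  have sxB := col_sum (fun χ => (hv χ).hX) (fun χ => (hv χ).hB) (m := 0) (Or.inr ⟨inv2.1, rfl⟩)
  have sxU := col_sum (fun χ => (hv χ).hX) (fun χ => (hv χ).hU) (m := 0) (Or.inr ⟨inv1.2, rfl⟩)
  have sxV := col_sum (fun χ => (hv χ).hX) (fun χ => (hv χ).hV) (m := 0) (Or.inr ⟨inv2.2, rfl⟩)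
  push_cast at sAA sBB sUU sVV sAB sAU sAV sBU sBV sUV snA snB snU snV sxA sxB sxU sxV
  -- bilinear and linear combinations
  let L : ℤ × ℤ × ℤ × ℤ → IrrCharacter G → ℤ := fun p χ =>
    p.1 * A χ + p.2.1 * B χ + p.2.2.1 * U χ + p.2.2.2 * V χ
  have bil : ∀ p q : ℤ × ℤ × ℤ × ℤ, ∑ χ, L p χ * L q χ =
      18 * (p.1 * q.1 + p.2.1 * q.2.1) + 6 * (p.2.2.1 * q.2.2.1 + p.2.2.2 * q.2.2.2) := by
    rintro ⟨p1, p2, p3, p4⟩ ⟨q1, q2, q3, q4⟩
    have e : ∀ χ, L (p1, p2, p3, p4) χ * L (q1, q2, q3, q4) χ =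
        (p1 * q1) * (A χ * A χ) + (p2 * q2) * (B χ * B χ) + (p3 * q3) * (U χ * U χ) +
          (p4 * q4) * (V χ * V χ) + (p1 * q2 + p2 * q1) * (A χ * B χ) +
          (p1 * q3 + p3 * q1) * (A χ * U χ) + (p1 * q4 + p4 * q1) * (A χ * V χ) +
          (p2 * q3 + p3 * q2) * (B χ * U χ) + (p2 * q4 + p4 * q2) * (B χ * V χ) +
          (p3 * q4 + p4 * q3) * (U χ * V χ) := fun χ => by simp only [L]; ring
    simp only [e, Finset.sum_add_distrib, ← Finset.mul_sum, sAA, sBB, sUU, sVV, sAB, sAU, sAV,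
      sBU, sBV, sUV]
    ring
  have linN : ∀ p : ℤ × ℤ × ℤ × ℤ, ∑ χ, (degNat χ : ℤ) * L p χ = 0 := by
    rintro ⟨p1, p2, p3, p4⟩
    have e : ∀ χ, (degNat χ : ℤ) * L (p1, p2, p3, p4) χ = p1 * ((degNat χ : ℤ) * A χ) +
        p2 * ((degNat χ : ℤ) * B χ) + p3 * ((degNat χ : ℤ) * U χ) +
        p4 * ((degNat χ : ℤ) * V χ) := fun χ => by simp only [L]; ring
    simp only [e, Finset.sum_add_distrib, ← Finset.mul_sum, snA, snB, snU, snV]
    ring
  have linX : ∀ p : ℤ × ℤ × ℤ × ℤ, ∑ χ, X χ * L p χ = 0 := by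
    rintro ⟨p1, p2, p3, p4⟩
    have e : ∀ χ, X χ * L (p1, p2, p3, p4) χ = p1 * (X χ * A χ) +
        p2 * (X χ * B χ) + p3 * (X χ * U χ) + p4 * (X χ * V χ) := fun χ => by
      simp only [L]; ring
    simp only [e, Finset.sum_add_distrib, ← Finset.mul_sum, sxA, sxB, sxU, sxV]
    ring
  let c : IrrCharacter G → Vec := fun χ => col (A χ) (B χ) (U χ) (V χ)
  have c1 : ∀ χ, 6 * (c χ).1 = L (1, -1, 3, 3) χ := fun χ => by
    simp only [c, L, k1]; ring
  have c2 : ∀ χ, 6 * (c χ).2.1 = L (1, 2, 3, 0) χ := fun χ => by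
    simp only [c, L, k2]; ring
  have c3 : ∀ χ, 6 * (c χ).2.2.1 = L (2, 1, 0, 3) χ := fun χ => by
    simp only [c, L, k3]; ring
  have c4 : ∀ χ, 6 * (c χ).2.2.2 = L (2, -2, 0, 0) χ := fun χ => by
    simp only [c, L]; linear_combination 2 * k4 χ
  let rest := (Finset.univ : Finset (IrrCharacter G)).erase (trivIrr G)
  have ctriv : c (trivIrr G) = (1, 1, 1, 0) := by
    simp only [c, ones.1, ones.2.1, ones.2.2.1, ones.2.2.2.1]; decide
  have split : ∀ {α : Type} [AddCommGroup α] (f : IrrCharacter G → α),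
      ∑ χ ∈ rest, f χ = (∑ χ, f χ) - f (trivIrr G) := fun f =>
    Finset.sum_erase_eq_sub t0
  have quad : ∀ (p q : ℤ × ℤ × ℤ × ℤ) (f g : IrrCharacter G → ℤ), (∀ χ, 6 * f χ = L p χ) →
      (∀ χ, 6 * g χ = L q χ) → 36 * ∑ χ ∈ rest, f χ * g χ =
        18 * (p.1 * q.1 + p.2.1 * q.2.1) + 6 * (p.2.2.1 * q.2.2.1 + p.2.2.2 * q.2.2.2) -
          36 * (f (trivIrr G) * g (trivIrr G)) := by
    intro p q f g hf hg
    rw [split, mul_sub, ← bil p q, Finset.mul_sum]
    congr 1
    refine Finset.sum_congr rfl fun χ _ => ?_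
    rw [← hf, ← hg]; ring
  have gramc : ∑ χ ∈ rest, outer (c χ) = gram := by
    have q11 := quad _ _ _ _ c1 c1
    have q12 := quad _ _ _ _ c1 c2
    have q13 := quad _ _ _ _ c1 c3
    have q14 := quad _ _ _ _ c1 c4
    have q22 := quad _ _ _ _ c2 c2
    have q23 := quad _ _ _ _ c2 c3
    have q24 := quad _ _ _ _ c2 c4
    have q33 := quad _ _ _ _ c3 c3
    have q34 := quad _ _ _ _ c3 c4
    have q44 := quad _ _ _ _ c4 c4
    simp only [ctriv] at q11 q12 q13 q14 q22 q23 q24 q33 q34 q44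
    simp only [outer, gram, Prod.ext_iff, Prod.fst_sum, Prod.snd_sum]
    refine ⟨⟨?_, ?_, ?_, ?_⟩, ⟨?_, ?_, ?_⟩, ⟨?_, ?_⟩, ?_⟩ <;> linarith
  have lin6 : ∀ (w : IrrCharacter G → ℤ) (p : ℤ × ℤ × ℤ × ℤ) (f : IrrCharacter G → ℤ),
      (∀ p, ∑ χ, w χ * L p χ = 0) → w (trivIrr G) = 1 → (∀ χ, 6 * f χ = L p χ) →
      f (trivIrr G) + ∑ χ ∈ rest, w χ * f χ = 0 := by
    intro w p f hw hw1 hf
    rw [split, hw1, one_mul, add_sub_cancel]
    have : 6 * ∑ χ, w χ * f χ = 0 := by
      rw [Finset.mul_sum, ← hw p]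
      exact Finset.sum_congr rfl fun χ _ => by rw [← hf]; ring
    omega
  have linear : ∀ w : IrrCharacter G → ℤ, (∀ p, ∑ χ, w χ * L p χ = 0) → w (trivIrr G) = 1 →
      ((1, 1, 1, 0) : Vec) + ∑ χ ∈ rest, w χ • c χ = 0 := by
    intro w hw hw1
    have l1 := lin6 w _ _ hw hw1 c1
    have l2 := lin6 w _ _ hw hw1 c2
    have l3 := lin6 w _ _ hw hw1 c3
    have l4 := lin6 w _ _ hw hw1 c4
    simp only [ctriv] at l1 l2 l3 l4
    simp only [Prod.ext_iff, Prod.fst_add, Prod.snd_add, Prod.fst_sum, Prod.snd_sum,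
      Prod.smul_fst, Prod.smul_snd, smul_eq_mul, Prod.fst_zero, Prod.snd_zero]
    exact ⟨l1, l2, l3, l4⟩
  have linn := linear (fun χ => (degNat χ : ℤ)) linN ones.2.2.2.2.2
  -- the entries are small
  have diag : ∀ χ ∈ rest, (c χ).1 * (c χ).1 ≤ 3 ∧ (c χ).2.1 * (c χ).2.1 ≤ 3 ∧
      (c χ).2.2.1 * (c χ).2.2.1 ≤ 3 ∧ (c χ).2.2.2 * (c χ).2.2.2 ≤ 4 := by
    intro χ hχ
    simp only [outer, gram, Prod.ext_iff, Prod.fst_sum, Prod.snd_sum] at gramc
    obtain ⟨⟨g1, -⟩, ⟨g2, -⟩, ⟨g3, -⟩, g4⟩ := gramc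
    exact ⟨g1 ▸ Finset.single_le_sum (f := fun χ => (c χ).1 * (c χ).1)
        (fun i _ => mul_self_nonneg _) hχ,
      g2 ▸ Finset.single_le_sum (f := fun χ => (c χ).2.1 * (c χ).2.1)
        (fun i _ => mul_self_nonneg _) hχ,
      g3 ▸ Finset.single_le_sum (f := fun χ => (c χ).2.2.1 * (c χ).2.2.1)
        (fun i _ => mul_self_nonneg _) hχ,
      g4 ▸ Finset.single_le_sum (f := fun χ => (c χ).2.2.2 * (c χ).2.2.2)
        (fun i _ => mul_self_nonneg _) hχ⟩
  have small : ∀ χ ∈ rest, (c χ).2.2.2 ∈ ([-1, 0, 1] : List ℤ) := by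
    intro χ hχ
    obtain ⟨-, -, -, d4⟩ := diag χ hχ
    by_contra hns
    rcases (or_assoc.2 (abs_le_two d4)).resolve_right hns with e | e
    all_goals
      have hz : ∀ ψ ∈ rest.erase χ, (c ψ).2.2.2 = 0 := by
        intro ψ hψ
        simp only [outer, gram, Prod.ext_iff, Prod.snd_sum] at gramc
        have g4 := gramc.2.2.2
        rw [← Finset.add_sum_erase _ _ hχ, e] at g4
        norm_num at g4
        exact mul_self_eq_zero.1
          ((Finset.sum_eq_zero_iff_of_nonneg fun i _ => mul_self_nonneg _).1 g4 ψ hψ)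
      have l4 := congrArg (fun v : Vec => v.2.2.2) linn
      simp only [Prod.snd_add, Prod.snd_sum, Prod.smul_snd, smul_eq_mul, Prod.snd_zero,
        zero_add] at l4
      rw [← Finset.add_sum_erase _ _ hχ, e,
        Finset.sum_eq_zero fun ψ hψ => by rw [hz ψ hψ, mul_zero]] at l4
      have := (hok χ (Finset.ne_of_mem_erase hχ)).three_le
      omega
  let s := rest.filter fun χ => c χ ≠ 0
  let σ : IrrCharacter G → ℤ := fun χ => if c χ ∈ cands then 1 else -1
  have hσ : ∀ χ, σ χ * σ χ = 1 := fun χ => by simp only [σ]; split_ifs <;> rfl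
  let row : IrrCharacter G → Vec × ℤ × ℤ :=
    fun χ => (σ χ • c χ, σ χ * degNat χ, σ χ * X χ)
  have hcand : ∀ χ ∈ s, (row χ).1 ∈ cands := by
    intro χ hχ
    obtain ⟨hr, hne⟩ := Finset.mem_filter.1 hχ
    obtain ⟨d1, d2, d3, -⟩ := diag χ hr
    simp only [row, σ]
    split_ifs with hc
    · simpa using hc
    · rcases mem_cands _ (abs_le_one d1) _ (abs_le_one d2) _ (abs_le_one d3) _ (small χ hr)
        (fun e => hne e) with e | e
      · exact absurd e hc
      · rw [neg_one_zsmul]; exact e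
  obtain ⟨l, hl, hsum⟩ := exists_shape s (fun χ => (row χ).1) hcand (by
    rw [← gramc]
    refine (Finset.sum_congr rfl fun χ _ => outer_smul (hσ χ) (c χ)).trans ?_
    refine Finset.sum_filter_of_ne fun χ _ h0 e => h0 ?_
    rw [e]; rfl)
  have lmem : ∀ χ ∈ l, χ ∈ s := by
    intro χ hχ
    by_contra hns
    have h0 := hsum (fun ψ => if ψ ∈ s then 0 else (1 : ℕ))
    rw [Finset.sum_eq_zero fun ψ hψ => if_pos hψ, eq_comm, List.sum_eq_zero_iff] at h0
    have := h0 _ (List.mem_map.2 ⟨χ, hχ, rfl⟩)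
    simp [hns] at this
  have tot : ∀ {α : Type} [AddCommGroup α] (f : Vec × ℤ × ℤ → α) (g : IrrCharacter G → α),
      (∀ χ, f (row χ) = g χ) → (∀ χ ∈ rest, c χ = 0 → g χ = 0) →
      ((l.map row).map f).sum = ∑ χ ∈ rest, g χ := by
    intro α _ f g hfg h0
    rw [List.map_map, ← hsum]
    exact (Finset.sum_congr rfl fun χ _ => hfg χ).trans
      (Finset.sum_filter_of_ne fun χ hχ hg e => hg (h0 χ hχ e))
  have rA : ∀ χ, valA (row χ).1 = σ χ * A χ := fun χ => by
    show valA (σ χ • col _ _ _ _) = _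
    rw [valA_smul, wA]
  have rB : ∀ χ, valB (row χ).1 = σ χ * B χ := fun χ => by
    show valB (σ χ • col _ _ _ _) = _
    rw [valB_smul, wB]
  have A0 : ∀ χ, c χ = 0 → A χ = 0 ∧ B χ = 0 := fun χ e => by
    have e1 := wA χ; have e2 := wB χ
    simp only [show col (A χ) (B χ) (U χ) (V χ) = 0 from e] at e1 e2
    exact ⟨e1.symm, e2.symm⟩
  have hs2 : ∀ χ, (σ χ : ℚ) ≠ 0 := fun χ => by simp only [σ]; split_ifs <;> norm_num
  refine false_of_rows (l.map row) (by rw [List.map_map]; exact hl) ?_ ?_ ?_ ?_ ?_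
    (N := Nat.card G) ?_ ?_
  · intro r hr
    obtain ⟨χ, hχ, rfl⟩ := List.mem_map.1 hr
    have hr' : RowOK (c χ) (degNat χ) (X χ) := hok χ (Finset.ne_of_mem_erase (Finset.mem_filter.1 (lmem χ hχ)).1)
    simp only [row, σ]
    split_ifs
    · simpa using hr'
    · obtain ⟨a1, a2, a3, a4, a5, a6, a7, a8, a9, a10⟩ := hr'
      refine ⟨by omega, ?_, ?_, ?_, ?_, ?_, ?_, ?_, by omega, ?_⟩ <;>
        (try simp only [valA_smul, valB_smul, valT_smul]) <;>
        first | omega | (ring_nf at a3 a4 a5 ⊢; linarith)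
  · rw [tot (fun r => r.2.1 • r.1) (fun χ => (degNat χ : ℤ) • c χ)
      (fun χ => by
        simp only [row, smul_smul]
        rw [mul_right_comm, hσ, one_mul])
      (fun χ _ e => by simp [e])]
    exact linn
  · rw [tot (fun r => r.2.2 • r.1) (fun χ => X χ • c χ)
      (fun χ => by
        simp only [row, smul_smul]
        rw [mul_right_comm, hσ, one_mul])
      (fun χ _ e => by simp [e])]
    exact linear X linX ones.2.2.2.2.1
  all_goals
    have hd0 : ∀ χ : IrrCharacter G, (degNat χ : ℚ) ≠ 0 := fun χ => by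
      exact_mod_cast (degNat_pos χ).ne'
    have g0 : (Nat.card G : ℚ) ≠ 0 := by exact_mod_cast Nat.card_pos.ne'
  -- class multiplication constants
  all_goals
    have cnt : ∀ (x y z : G) (kx ky k : ℕ) (u v w : IrrCharacter G → ℤ),
        Nat.card (Subgroup.centralizer ({x} : Set G)) = kx →
        Nat.card (Subgroup.centralizer ({y} : Set G)) = ky → kx ≠ 0 → ky ≠ 0 →
        Nat.card {p : G × G // IsConj x p.1 ∧ IsConj y p.2 ∧ p.1 * p.2 = z} = k →
        (∀ χ : IrrCharacter G, (χ : G → ℂ) x = u χ) →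
        (∀ χ : IrrCharacter G, (χ : G → ℂ) y = v χ) →
        (∀ χ : IrrCharacter G, (χ : G → ℂ) z = w χ) →
        ∑ χ, ((u χ * v χ * w χ : ℤ) : ℚ) / (degNat χ : ℤ) =
          ((k * kx * ky : ℕ) : ℚ) / Nat.card G := by
      intro x y z kx ky k u v w hkx hky hx0 hy0 hk hu hv' hw
      have e := card_class_mul x y z
      rw [hk] at e
      have ex : (Nat.card {p : G // IsConj x p} : ℂ) = (Nat.card G : ℂ) / kx := by
        rw [eq_div_iff (by exact_mod_cast hx0)]
        exact_mod_cast hkx ▸ card_class x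
      have ey : (Nat.card {p : G // IsConj y p} : ℂ) = (Nat.card G : ℂ) / ky := by
        rw [eq_div_iff (by exact_mod_cast hy0)]
        exact_mod_cast hky ▸ card_class y
      have eS : ∑ χ : IrrCharacter G, (χ : G → ℂ) x * (χ : G → ℂ) y * conj ((χ : G → ℂ) z) /
          (χ : G → ℂ) 1 =
          ((∑ χ, ((u χ * v χ * w χ : ℤ) : ℚ) / (degNat χ : ℤ) : ℚ) : ℂ) := by
        push_cast
        refine Finset.sum_congr rfl fun χ _ => ?_
        rw [hu, hv', hw, map_intCast, apply_one_eq_degNat]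
      rw [ex, ey, eS] at e
      have e' : (k : ℚ) = (Nat.card G : ℚ) / kx * ((Nat.card G : ℚ) / ky) / Nat.card G *
          ∑ χ, ((u χ * v χ * w χ : ℤ) : ℚ) / (degNat χ : ℤ) := by
        apply Rat.cast_injective (α := ℂ)
        simp only [Rat.cast_natCast, Rat.cast_mul, Rat.cast_div]
        exact e
      rw [Nat.cast_mul, Nat.cast_mul, e']
      have hx' : (kx : ℚ) ≠ 0 := by exact_mod_cast hx0
      have hy' : (ky : ℚ) ≠ 0 := by exact_mod_cast hy0
      field_simp
    have pair2 : ∀ {x S : G}, Half M x R S →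
        Nat.card {p : G × G // IsConj x p.1 ∧ IsConj x p.2 ∧ p.1 * p.2 = x * rot R x} = 2 := by
      intro x S hh
      have e : {p : G × G | IsConj x p.1 ∧ IsConj x p.2 ∧ p.1 * p.2 = x * rot R x} =
          {(x, rot R x), (rot R x, x)} := by
        ext ⟨p, q⟩
        simp only [Set.mem_setOf_eq, Set.mem_insert_iff, Set.mem_singleton_iff, Prod.mk.injEq]
        exact hh.pair_iff p q
      rw [← Set.coe_setOf, Nat.card_coe_set_eq, e, Set.ncard_pair]
      simp only [ne_eq, Prod.mk.injEq, not_and]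
      exact fun e' _ => hh.basis.ne e'.symm
    have hAAB := cnt a a a' 18 18 2 A A B h.card_centralizer h.card_centralizer (by norm_num)
      (by norm_num) (pair2 h) (fun χ => (hv χ).hA) (fun χ => (hv χ).hA) (fun χ => (hv χ).hB)
    have hBBA := cnt a' a' (a' * rot R a') 18 18 2 B B A h'.card_centralizer h'.card_centralizer
      (by norm_num) (by norm_num) (pair2 h') (fun χ => (hv χ).hB) (fun χ => (hv χ).hB)
      (fun χ => by
        obtain ⟨g, hg⟩ := isConj_iff.1 h.second_mul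
        rw [← hg, IsCharacter.conj_apply (irr_isCharacter χ)]
        exact (hv χ).hA)
    have rowsum : ∀ (f : IrrCharacter G → ℚ), ∑ χ ∈ rest, f χ = (∑ χ, f χ) - f (trivIrr G) :=
      fun f => split f
  · rw [tot (fun r : Vec × ℤ × ℤ => ((valA r.1 * valB r.1 * (valA r.1 - valB r.1) : ℤ) : ℚ) / r.2.1)
      (fun χ => ((A χ * A χ * B χ : ℤ) : ℚ) / (degNat χ : ℤ) -
        ((B χ * B χ * A χ : ℤ) : ℚ) / (degNat χ : ℤ))
      (fun χ => by
        simp only [rA, rB]
        simp only [row]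
        have := hs2 χ; have := hd0 χ
        have hq : (σ χ : ℚ) * σ χ = 1 := by exact_mod_cast hσ χ
        push_cast
        field_simp
        linear_combination ((A χ : ℚ) * B χ * (A χ - B χ)) * hq)
      (fun χ _ e => by simp [A0 χ e]), rowsum, Finset.sum_sub_distrib, hAAB, hBBA]
    simp [ones]
  · have hTc : Nat.card {p : G × G // IsConj T p.1 ∧ IsConj a p.2 ∧ p.1 * p.2 = a'} = 0 := by
      haveI : IsEmpty {p : G × G // IsConj T p.1 ∧ IsConj a p.2 ∧ p.1 * p.2 = a'} :=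
        ⟨fun p => h.no_pair (k := p.1.1) (by
          have := p.2.1.pow 2
          rwa [pow_two, h.tt, isConj_one_right, pow_two] at this) p.2.2.1 p.2.2.2⟩
      exact Nat.card_of_isEmpty
    have hXAB := cnt T a a' (Nat.card (Subgroup.centralizer ({T} : Set G))) 18 0 X A B rfl
      h.card_centralizer Nat.card_pos.ne' (by norm_num) hTc (fun χ => (hv χ).hX)
      (fun χ => (hv χ).hA) (fun χ => (hv χ).hB)
    rw [tot (fun r : Vec × ℤ × ℤ => ((r.2.2 * valA r.1 * valB r.1 : ℤ) : ℚ) / r.2.1)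
      (fun χ => ((X χ * A χ * B χ : ℤ) : ℚ) / (degNat χ : ℤ))
      (fun χ => by
        simp only [rA, rB]
        simp only [row]
        have := hs2 χ; have := hd0 χ
        have hq : (σ χ : ℚ) * σ χ = 1 := by exact_mod_cast hσ χ
        push_cast
        field_simp
        linear_combination ((X χ : ℚ) * A χ * B χ) * hq)
      (fun χ _ e => by simp [A0 χ e]), rowsum, hXAB]
    simp [ones]
  · rw [tot (fun r : Vec × ℤ × ℤ => ((valA r.1 * valA r.1 * valB r.1 : ℤ) : ℚ) / r.2.1)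
      (fun χ => ((A χ * A χ * B χ : ℤ) : ℚ) / (degNat χ : ℤ))
      (fun χ => by
        simp only [rA, rB]
        simp only [row]
        have := hs2 χ; have := hd0 χ
        have hq : (σ χ : ℚ) * σ χ = 1 := by exact_mod_cast hσ χ
        push_cast
        field_simp
        linear_combination ((A χ : ℚ) * A χ * B χ) * hq)
      (fun χ _ e => by simp [A0 χ e]), rowsum, hAAB]
    simp [ones]
  · have hsq : (1 : ℤ) + ∑ χ ∈ rest, (degNat χ : ℤ) * degNat χ = Nat.card G := by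
      rw [split, ones.2.2.2.2.2, one_mul, add_sub_cancel]
      have e := sum_degree_sq (G := G)
      simp only [apply_one_eq_degNat, pow_two] at e
      exact_mod_cast e
    rw [List.map_map, ← hsum, ← hsq]
    refine (add_le_add_iff_left 1).2 ?_
    refine le_trans (le_of_eq (Finset.sum_congr rfl fun χ _ => ?_))
      (Finset.sum_le_sum_of_subset_of_nonneg (Finset.filter_subset _ _)
        fun _ _ _ => mul_self_nonneg _)
    show σ χ * degNat χ * (σ χ * degNat χ) = _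
    rw [mul_mul_mul_comm, hσ, one_mul]

end Sums

end Cfsg.Agent.Lib.Characters.DihedralNine
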