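import Mathlib

/-!
# The embeddings of the exceptional lattice of a normalizer `3² : D₈`

The four virtual characters of norm 4 have one of six shapes: the multiset of the columns
(one for each irreducible character involved) is one of six explicit lists.
-/

namespace Cfsg.Agent.Lib.Characters.DihedralNine

open Finset

/-- A column. -/
abbrev Vec := ℤ × ℤ × ℤ × ℤ

/-- A symmetric matrix, by its upper triangle row by row. -/
abbrev Sym := (ℤ × ℤ × ℤ × ℤ) × (ℤ × ℤ × ℤ) × (ℤ × ℤ) × ℤ

/-- The outer square of a column. -/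
def outer : Vec → Sym
  | (a, b, c, d) => ((a * a, a * b, a * c, a * d), (b * b, b * c, b * d), (c * c, c * d), d * d)

/-- The diagonal is non-negative. -/
def diagNonneg : Sym → Bool
  | ((a, _), (b, _), (c, _), d) => decide (0 ≤ a) && decide (0 ≤ b) && decide (0 ≤ c) && decide (0 ≤ d)

/-- The index of the first non-zero entry. -/
def lead : Vec → ℕ
  | (a, b, c, _) => if a ≠ 0 then 0 else if b ≠ 0 then 1 else if c ≠ 0 then 2 else 3

/-- The first `i` rows of the matrix vanish. -/
def rowsZero : ℕ → Sym → Bool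
  | i, (r, s, t, _) =>
      (decide (i < 1) || decide (r = 0)) && (decide (i < 2) || decide (s = 0)) &&
        (decide (i < 3) || decide (t = 0))

/-- All multisets of columns from the list with the given sum of outer squares. -/
def search : List Vec → Sym → List (List Vec)
  | [], M => if M = 0 then [[]] else []
  | v :: rest, M =>
      if rowsZero (lead v) M then
        (List.range 5).flatMap fun k : ℕ =>
          if diagNonneg (M - (k : ℤ) • outer v) then
            (search rest (M - (k : ℤ) • outer v)).map (List.replicate k v ++ ·)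
          else []
      else []

theorem diagNonneg_iff (M : Sym) :
    diagNonneg M = true ↔ 0 ≤ M.1.1 ∧ 0 ≤ M.2.1.1 ∧ 0 ≤ M.2.2.1.1 ∧ 0 ≤ M.2.2.2 := by
  obtain ⟨⟨a, _⟩, ⟨b, _⟩, ⟨c, _⟩, d⟩ := M
  simp [diagNonneg, and_assoc]

theorem diagNonneg_sum (rest : List Vec) (m : Vec → ℕ) :
    diagNonneg ((rest.map fun v => (m v : ℤ) • outer v).sum) = true := by
  rw [diagNonneg_iff]
  induction rest with
  | nil => simp
  | cons v rest ih =>
    obtain ⟨a, b, c, d⟩ := v
    simp only [List.map_cons, List.sum_cons, outer, Prod.smul_mk, Prod.fst_add, Prod.snd_add,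
      smul_eq_mul]
    refine ⟨?_, ?_, ?_, ?_⟩ <;>
      refine add_nonneg (mul_nonneg (Int.natCast_nonneg _) (mul_self_nonneg _)) ?_
    exacts [ih.1, ih.2.1, ih.2.2.1, ih.2.2.2]

theorem rowsZero_sum : ∀ (i : ℕ) (l : List Vec) (m : Vec → ℕ), (∀ v ∈ l, i ≤ lead v) →
    rowsZero i ((l.map fun v => (m v : ℤ) • outer v).sum) = true := by
  intro i l m
  induction l with
  | nil => intro; simp [rowsZero]
  | cons v rest ih =>
    intro h
    have h1 := h v List.mem_cons_self
    have h2 := ih fun w hw => h w (List.mem_cons_of_mem _ hw)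
    obtain ⟨a, b, c, d⟩ := v
    simp only [List.map_cons, List.sum_cons]
    generalize (rest.map fun v => (m v : ℤ) • outer v).sum = M at h2 ⊢
    obtain ⟨r, s, t, u⟩ := M
    simp only [rowsZero, Bool.and_eq_true, Bool.or_eq_true, decide_eq_true_eq, outer,
      Prod.smul_mk, Prod.mk_add_mk, smul_eq_mul] at h2 ⊢
    simp only [lead] at h1
    refine ⟨⟨?_, ?_⟩, ?_⟩
    · rcases h2.1.1 with e | e
      · exact Or.inl e
      · by_cases hi : i < 1
        · exact Or.inl hi
        · refine Or.inr ?_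
          subst e
          split_ifs at h1 <;> first | omega | simp_all
    · rcases h2.1.2 with e | e
      · exact Or.inl e
      · by_cases hi : i < 2
        · exact Or.inl hi
        · refine Or.inr ?_
          subst e
          split_ifs at h1 <;> first | omega | simp_all
    · rcases h2.2 with e | e
      · exact Or.inl e
      · by_cases hi : i < 3
        · exact Or.inl hi
        · refine Or.inr ?_
          subst e
          split_ifs at h1 <;> first | omega | simp_all

theorem mult_le_four {v : Vec} (hv : v ≠ 0) {k : ℕ} {M : Sym}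
    (hM : M.1.1 ≤ 4 ∧ M.2.1.1 ≤ 4 ∧ M.2.2.1.1 ≤ 4 ∧ M.2.2.2 ≤ 4)
    (h : diagNonneg (M - (k : ℤ) • outer v) = true) : k ≤ 4 := by
  rw [diagNonneg_iff] at h
  obtain ⟨a, b, c, d⟩ := v
  simp only [outer, Prod.smul_mk, Prod.fst_sub, Prod.snd_sub, smul_eq_mul, sub_nonneg] at h
  have key : ∀ x : ℤ, x ≠ 0 → (k : ℤ) * (x * x) ≤ 4 → k ≤ 4 := by
    intro x hx hk
    have : 1 ≤ x * x := by rcases lt_or_gt_of_ne hx with h | h <;> nlinarith
    have : (k : ℤ) ≤ 4 := by nlinarith [Int.natCast_nonneg k]
    omega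
  by_cases ha : a = 0
  · by_cases hb : b = 0
    · by_cases hc : c = 0
      · by_cases hd : d = 0
        · exact absurd (by simp [ha, hb, hc, hd]) hv
        · exact key d hd (h.2.2.2.trans hM.2.2.2)
      · exact key c hc (h.2.2.1.trans hM.2.2.1)
    · exact key b hb (h.2.1.trans hM.2.1)
  · exact key a ha (h.1.trans hM.1)

/-- The candidates are ordered by leading index. -/
def Ordered : List Vec → Prop
  | [] => True
  | v :: rest => v ≠ 0 ∧ (∀ w ∈ rest, lead v ≤ lead w) ∧ Ordered rest

theorem mem_search : ∀ (l : List Vec) (m : Vec → ℕ) (M : Sym), Ordered l →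
    (M.1.1 ≤ 4 ∧ M.2.1.1 ≤ 4 ∧ M.2.2.1.1 ≤ 4 ∧ M.2.2.2 ≤ 4) →
    M = (l.map fun v => (m v : ℤ) • outer v).sum →
    l.flatMap (fun v => List.replicate (m v) v) ∈ search l M := by
  intro l
  induction l with
  | nil => intro m M _ _ hM; simp [search, hM]
  | cons v rest ih =>
    intro m M ho hd hM
    have hr : rowsZero (lead v) M = true := by
      rw [hM]
      refine rowsZero_sum _ _ m fun w hw => ?_
      rcases List.mem_cons.1 hw with rfl | hw
      · exact le_rfl
      · exact ho.2.1 w hw
    rw [search, if_pos hr, List.mem_flatMap]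
    have e : M - (m v : ℤ) • outer v = (rest.map fun v => (m v : ℤ) • outer v).sum := by
      rw [hM, List.map_cons, List.sum_cons, add_sub_cancel_left]
    have hn : diagNonneg (M - (m v : ℤ) • outer v) = true := by
      rw [e]; exact diagNonneg_sum rest m
    have hv4 := mult_le_four ho.1 hd hn
    refine ⟨m v, List.mem_range.2 (by omega), ?_⟩
    rw [if_pos hn, List.flatMap_cons, List.mem_map]
    refine ⟨_, ih m _ ho.2.2 ?_ e, rfl⟩
    have h0 := (diagNonneg_iff _).1 hn
    obtain ⟨a, b, c, d⟩ := v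
    simp only [outer, Prod.smul_mk, Prod.fst_sub, Prod.snd_sub, smul_eq_mul] at h0 ⊢
    refine ⟨?_, ?_, ?_, ?_⟩ <;>
      nlinarith [Int.natCast_nonneg (m (a, b, c, d)), mul_self_nonneg a, mul_self_nonneg b,
        mul_self_nonneg c, mul_self_nonneg d]

/-- The possible columns, normalized to have positive leading entry. -/
def cands : List Vec :=
  [(1, 1, 1, 1), (1, 1, 1, 0), (1, 1, 1, -1), (1, 1, 0, 1), (1, 1, 0, 0), (1, 1, 0, -1),
   (1, 1, -1, 1), (1, 1, -1, 0), (1, 1, -1, -1), (1, 0, 1, 1), (1, 0, 1, 0), (1, 0, 1, -1),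
   (1, 0, 0, 1), (1, 0, 0, 0), (1, 0, 0, -1), (1, 0, -1, 1), (1, 0, -1, 0), (1, 0, -1, -1),
   (1, -1, 1, 1), (1, -1, 1, 0), (1, -1, 1, -1), (1, -1, 0, 1), (1, -1, 0, 0), (1, -1, 0, -1),
   (1, -1, -1, 1), (1, -1, -1, 0), (1, -1, -1, -1), (0, 1, 1, 1), (0, 1, 1, 0), (0, 1, 1, -1),
   (0, 1, 0, 1), (0, 1, 0, 0), (0, 1, 0, -1), (0, 1, -1, 1), (0, 1, -1, 0), (0, 1, -1, -1),
   (0, 0, 1, 1), (0, 0, 1, 0), (0, 0, 1, -1), (0, 0, 0, 1)]

/-- The Gram matrix off the principal character. -/
def gram : Sym := ((3, 0, 1, 2), (3, 1, -1), (3, 1), 4)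

/-- The six shapes. -/
def shapes : List (List Vec) :=
  [[(1, 0, 1, 0), (1, 0, 0, 1), (1, 0, 0, 1), (0, 1, 1, 0), (0, 1, 0, 0), (0, 1, 0, -1), (0, 0, 1, 1)],
   [(1, 0, 1, 1), (1, 0, 0, 1), (1, 0, 0, 0), (0, 1, 1, -1), (0, 1, 0, 0), (0, 1, 0, 0), (0, 0, 1, 1)],
   [(1, 0, 1, 1), (1, 0, 0, 1), (1, 0, 0, 0), (0, 1, 1, 0), (0, 1, 0, 0), (0, 1, 0, -1), (0, 0, 1, 0), (0, 0, 0, 1)],
   [(1, 1, 0, 0), (1, 0, 1, 1), (1, -1, 0, 1), (0, 1, 1, 0), (0, 0, 1, 0), (0, 0, 0, 1), (0, 0, 0, 1)],
   [(1, 1, 1, 0), (1, 0, 0, 1), (1, -1, 0, 1), (0, 1, 0, 0), (0, 0, 1, 1), (0, 0, 1, 0), (0, 0, 0, 1)],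
   [(1, 1, 1, 1), (1, 0, 0, 0), (1, -1, 0, 1), (0, 1, 0, -1), (0, 0, 1, 0), (0, 0, 1, 0), (0, 0, 0, 1)]]

theorem search_eq : search cands gram = shapes := by decide +kernel

/-- A boolean version of `Ordered`. -/
def orderedB : List Vec → Bool
  | [] => true
  | v :: rest => decide (v ≠ 0) && rest.all (fun w => decide (lead v ≤ lead w)) && orderedB rest

theorem ordered_of_orderedB : ∀ l : List Vec, orderedB l = true → Ordered l := by
  intro l
  induction l with
  | nil => intro; trivial
  | cons v rest ih =>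
    intro h
    simp only [orderedB, Bool.and_eq_true, decide_eq_true_eq, List.all_eq_true] at h
    exact ⟨h.1.1, h.1.2, ih h.2⟩

theorem cands_ordered : Ordered cands := ordered_of_orderedB _ (by decide +kernel)

theorem cands_nodup : cands.Nodup := by decide +kernel

/-- A normalized column with entries at most one in absolute value is a candidate. -/
theorem mem_cands : ∀ a ∈ ([-1, 0, 1] : List ℤ), ∀ b ∈ ([-1, 0, 1] : List ℤ),
    ∀ c ∈ ([-1, 0, 1] : List ℤ), ∀ d ∈ ([-1, 0, 1] : List ℤ),
      (a, b, c, d) ≠ ((0, 0, 0, 0) : Vec) →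
      (a, b, c, d) ∈ cands ∨ (-a, -b, -c, -d) ∈ cands := by
  decide +kernel

/-- The multiset of columns with the given Gram matrix is one of the six shapes. -/
theorem exists_shape {ι : Type*} [DecidableEq ι] (s : Finset ι) (v : ι → Vec)
    (hv : ∀ i ∈ s, v i ∈ cands) (hG : ∑ i ∈ s, outer (v i) = gram) :
    ∃ l : List ι, l.map v ∈ shapes ∧
      ∀ {M : Type} [AddCommMonoid M] (f : ι → M), ∑ i ∈ s, f i = (l.map f).sum := by
  classical
  let l : List ι := cands.flatMap fun w => (s.filter fun i => v i = w).toList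
  have hsum : ∀ {M : Type} [AddCommMonoid M] (f : ι → M), ∑ i ∈ s, f i = (l.map f).sum := by
    intro M _ f
    have e : ∀ c : List Vec, c.Nodup →
        ((c.flatMap fun w => (s.filter fun i => v i = w).toList).map f).sum =
          ∑ i ∈ s.filter (fun i => v i ∈ c), f i := by
      intro c hc
      induction c with
      | nil => simp
      | cons w c ih =>
        obtain ⟨hw, hc⟩ := List.nodup_cons.1 hc
        rw [List.flatMap_cons, List.map_append, List.sum_append, ih hc, Finset.sum_map_toList,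
          ← Finset.sum_union]
        · congr 1
          ext i
          simp only [Finset.mem_union, Finset.mem_filter, List.mem_cons]
          tauto
        · rw [Finset.disjoint_filter]
          intro i _ h1 h2
          exact hw (h1 ▸ h2)
    rw [e cands cands_nodup, Finset.filter_true_of_mem hv]
  refine ⟨l, ?_, hsum⟩
  let m : Vec → ℕ := fun w => (s.filter fun i => v i = w).card
  have hl : l.map v = cands.flatMap fun w => List.replicate (m w) w := by
    simp only [l, List.map_flatMap]
    congr 1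
    funext w
    rw [List.eq_replicate_iff]
    refine ⟨by simp [m], fun x hx => ?_⟩
    obtain ⟨i, hi, rfl⟩ := List.mem_map.1 hx
    exact (Finset.mem_filter.1 (Finset.mem_toList.1 hi)).2
  have hM : gram = (cands.map fun w => (m w : ℤ) • outer w).sum := by
    rw [← hG, ← List.sum_toFinset _ cands_nodup,
      ← Finset.sum_fiberwise_of_maps_to (g := v) (t := cands.toFinset)
        (fun i hi => List.mem_toFinset.2 (hv i hi))]
    refine Finset.sum_congr rfl fun w _ => ?_
    rw [Finset.sum_congr rfl fun i hi => by rw [(Finset.mem_filter.1 hi).2], Finset.sum_const,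
      natCast_zsmul]
  rw [hl, ← search_eq]
  exact mem_search cands m gram cands_ordered (by decide) hM

end Cfsg.Agent.Lib.Characters.DihedralNine
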