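import Cfsg.Agent.Lib.ThreeNine.Setup
import Mathlib

/-!
# Local structure: a self-centralising group of order nine with dihedral automiser

`Half` packs an element fixed by a reflection; the second reflection gives a second instance.
-/

set_option autoImplicit false
set_option linter.unusedSectionVars false

namespace Cfsg.Agent.Lib.Characters.DihedralNine

open Subgroup Cfsg.Agent.Lib.ThreeNine

universe u

variable {G : Type u} [Group G]

/-- The hypotheses on the Sylow subgroup. -/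
structure Ctx (M : Sylow 3 G) : Prop extends Loc M where
  self : Subgroup.centralizer ((M : Subgroup G) : Set G) = M
  eight : ∀ S : Sylow 2 ↥(normalizer ((M : Subgroup G) : Set G)), Nat.card S = 8

/-- The image of `a` under the rotation. -/
def rot (R a : G) : G := R * a * R⁻¹

/-- An element of `M` fixed by the reflection `T`, with the rotation `R`. -/
structure Half (M : Sylow 3 G) (a R T : G) : Prop where
  ctx : Ctx M
  mem : a ∈ (M : Subgroup G)
  ne : a ≠ 1
  rMem : R ∈ normalizer ((M : Subgroup G) : Set G)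
  tMem : T ∈ normalizer ((M : Subgroup G) : Set G)
  tt : T * T = 1
  trt : T * R * T = R⁻¹
  fixed : T * a * T = a
  neg : R * R * a * (R * R)⁻¹ = a⁻¹
  ind : rot R a ≠ a ∧ rot R a ≠ a⁻¹

/-- The four images of `a`. -/
def Orb (R a u : G) : Prop := u = a ∨ u = a⁻¹ ∨ u = rot R a ∨ u = (rot R a)⁻¹

/-- The element with given coordinates. -/
def pp (a b : G) (z : ZMod 3 × ZMod 3) : G := a ^ z.1.val * b ^ z.2.val

/-! ### Powers of elements of order three -/

theorem inv_eq_sq {u : G} (hu : u ^ 3 = 1) : u ^ 2 = u⁻¹ :=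
  eq_inv_of_mul_eq_one_left (by rw [← pow_succ]; exact hu)

theorem eq_one_of_sq {u : G} (h3 : u ^ 3 = 1) (h : u = u⁻¹) : u = 1 := by
  have h2 : u * u = 1 := mul_eq_one_iff_eq_inv.mpr h
  rwa [pow_succ, pow_two, h2, one_mul] at h3

theorem pow_val_add {u : G} (hu : u ^ 3 = 1) (i j : ZMod 3) :
    u ^ i.val * u ^ j.val = u ^ (i + j).val := by
  rw [← pow_add, ZMod.val_add, pow_eq_pow_mod (i.val + j.val) hu]

theorem pow_val_pow {u : G} (hu : u ^ 3 = 1) (i j : ZMod 3) :
    (u ^ i.val) ^ j.val = u ^ (i * j).val := by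
  rw [← pow_mul, ZMod.val_mul, pow_eq_pow_mod (i.val * j.val) hu]

theorem inv_pow_val {u : G} (hu : u ^ 3 = 1) (i : ZMod 3) : (u ^ i.val)⁻¹ = u ^ (-i).val :=
  inv_eq_of_mul_eq_one_right (by rw [pow_val_add hu, add_neg_cancel, ZMod.val_zero, pow_zero])

theorem pow_val_cases {u : G} (hu : u ^ 3 = 1) (i : ZMod 3) :
    u ^ i.val = 1 ∨ u ^ i.val = u ∨ u ^ i.val = u⁻¹ := by
  have h := i.val_lt
  generalize i.val = k at h ⊢
  interval_cases k
  · simp
  · simp
  · exact Or.inr (Or.inr (inv_eq_sq hu))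

theorem pow_val_eq_one {u : G} (hu : u ^ 3 = 1) (h1 : u ≠ 1) {i : ZMod 3} (h : u ^ i.val = 1) :
    i = 0 := by
  refine (ZMod.val_eq_zero i).1 ?_
  have hi := i.val_lt
  generalize i.val = k at hi h ⊢
  interval_cases k
  · rfl
  · exact absurd (by simpa using h) h1
  · exact absurd (inv_eq_one.mp (by rw [← inv_eq_sq hu]; exact h)) h1

theorem conj_pp (g a b : G) (z : ZMod 3 × ZMod 3) :
    g * pp a b z * g⁻¹ = pp (g * a * g⁻¹) (g * b * g⁻¹) z := by
  simp only [pp, conj_pow]
  group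

/-! ### Bases of `M` -/

section Basis

variable {M : Sylow 3 G} {a b : G}

/-- Two independent elements of `M`. -/
structure Basis₂ (M : Sylow 3 G) (a b : G) : Prop where
  ctx : Ctx M
  amem : a ∈ (M : Subgroup G)
  bmem : b ∈ (M : Subgroup G)
  a1 : a ≠ 1
  b1 : b ≠ 1
  ne : b ≠ a
  ne' : b ≠ a⁻¹

theorem Basis₂.comm (B : Basis₂ M a b) (i j : ℕ) : b ^ j * a ^ i = a ^ i * b ^ j :=
  B.ctx.comm _ (pow_mem B.bmem j) _ (pow_mem B.amem i)

theorem Basis₂.pp_mem (B : Basis₂ M a b) (z : ZMod 3 × ZMod 3) : pp a b z ∈ (M : Subgroup G) :=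
  mul_mem (pow_mem B.amem _) (pow_mem B.bmem _)

theorem Basis₂.pp_add (B : Basis₂ M a b) (z w : ZMod 3 × ZMod 3) :
    pp a b z * pp a b w = pp a b (z + w) := by
  simp only [pp, Prod.fst_add, Prod.snd_add]
  rw [← pow_val_add (B.ctx.cube a B.amem), ← pow_val_add (B.ctx.cube b B.bmem)]
  calc a ^ z.1.val * b ^ z.2.val * (a ^ w.1.val * b ^ w.2.val)
      = a ^ z.1.val * (b ^ z.2.val * a ^ w.1.val) * b ^ w.2.val := by simp only [mul_assoc]
    _ = a ^ z.1.val * a ^ w.1.val * (b ^ z.2.val * b ^ w.2.val) := by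
      rw [B.comm]; simp only [mul_assoc]

theorem Basis₂.pp_zero (_B : Basis₂ M a b) : pp a b 0 = 1 := by simp [pp]

theorem Basis₂.pp_neg (B : Basis₂ M a b) (z : ZMod 3 × ZMod 3) :
    (pp a b z)⁻¹ = pp a b (-z) :=
  inv_eq_of_mul_eq_one_right (by rw [B.pp_add, add_neg_cancel, B.pp_zero])

theorem Basis₂.indep (B : Basis₂ M a b) {k l : ZMod 3} (h : a ^ k.val = b ^ l.val) :
    k = 0 ∧ l = 0 := by
  have ha := B.ctx.cube a B.amem
  have hb := B.ctx.cube b B.bmem
  rcases pow_val_cases hb l with e | e | e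
  · have hl := pow_val_eq_one hb B.b1 e
    exact ⟨pow_val_eq_one ha B.a1 (h.trans e), hl⟩
  · rw [e] at h
    rcases pow_val_cases ha k with f | f | f <;> rw [f] at h
    exacts [absurd h.symm B.b1, absurd h.symm B.ne, absurd h.symm B.ne']
  · rw [e] at h
    replace h : b = (a ^ k.val)⁻¹ := by rw [h, inv_inv]
    rcases pow_val_cases ha k with f | f | f <;> rw [f] at h
    · exact absurd (by simpa using h) B.b1
    · exact absurd h B.ne'
    · exact absurd (by simpa using h) B.ne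

theorem Basis₂.inj (B : Basis₂ M a b) {z w : ZMod 3 × ZMod 3} (h : pp a b z = pp a b w) :
    z = w := by
  have h1 : pp a b (z - w) = 1 := by
    rw [sub_eq_add_neg, ← B.pp_add, h, ← B.pp_neg, mul_inv_cancel]
  have h2 : a ^ (z - w).1.val = b ^ (-(z - w).2).val := by
    rw [← inv_pow_val (B.ctx.cube b B.bmem)]
    exact eq_inv_of_mul_eq_one_left h1
  obtain ⟨e1, e2⟩ := B.indep h2
  exact sub_eq_zero.mp (Prod.ext e1 (neg_eq_zero.mp e2))

theorem Basis₂.surj [Finite G] (B : Basis₂ M a b) {u : G} (hu : u ∈ (M : Subgroup G)) :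
    ∃ z, pp a b z = u := by
  let f : ZMod 3 × ZMod 3 → ↥(M : Subgroup G) := fun z => ⟨pp a b z, B.pp_mem z⟩
  have hf : Function.Injective f := fun z w h => B.inj (congrArg Subtype.val h)
  obtain ⟨z, hz⟩ := (hf.bijective_of_nat_card_le (by simp [B.ctx.card])).2 ⟨u, hu⟩
  exact ⟨z, congrArg Subtype.val hz⟩

theorem Basis₂.conj_eq [Finite G] (B : Basis₂ M a b) {g : G} (ha : g * a * g⁻¹ = a)
    (hb : g * b * g⁻¹ = b) : g ∈ (M : Subgroup G) := by
  rw [← B.ctx.self, Subgroup.mem_centralizer_iff]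
  intro u hu
  obtain ⟨z, rfl⟩ := B.surj hu
  exact (mul_inv_eq_iff_eq_mul.mp (by rw [conj_pp, ha, hb])).symm

theorem Basis₂.conj_inv [Finite G] (B : Basis₂ M a b) {g : G} (ha : g * a * g⁻¹ = a⁻¹)
    (hb : g * b * g⁻¹ = b⁻¹) {u : G} (hu : u ∈ (M : Subgroup G)) : g * u * g⁻¹ = u⁻¹ := by
  obtain ⟨z, rfl⟩ := B.surj hu
  rw [conj_pp, ha, hb, B.pp_neg]
  simp only [pp, Prod.fst_neg, Prod.snd_neg, inv_pow]
  rw [inv_pow_val (B.ctx.cube a B.amem), inv_pow_val (B.ctx.cube b B.bmem)]

end Basis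

theorem Ctx.mem_of_nine [Finite G] {M : Sylow 3 G} (h : Ctx M) {u : G} (hu : u ^ 9 = 1)
    (hn : u ∈ normalizer ((M : Subgroup G) : Set G)) : u ∈ (M : Subgroup G) := by
  have hp : IsPGroup 3 (zpowers u) := IsPGroup.of_card_dvd_pow (n := 2) (by
    rw [Nat.card_zpowers]; exact orderOf_dvd_of_pow_eq_one hu)
  have hle : zpowers u ≤ normalizer ((M : Subgroup G) : Set G) := zpowers_le.mpr hn
  have h3 := M.is_maximal' (IsPGroup.to_sup_of_normal_right' hp M.isPGroup' hle) le_sup_right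
  exact h3 ▸ (le_sup_left : zpowers u ≤ zpowers u ⊔ M) (mem_zpowers u)

theorem Ctx.eq_one_of_two [Finite G] {M : Sylow 3 G} (h : Ctx M) {u : G}
    (hu : u ∈ (M : Subgroup G)) (h2 : u * u = 1) : u = 1 :=
  eq_one_of_sq (h.cube u hu) (eq_inv_of_mul_eq_one_left h2)

/-! ### Coordinates of the orbit -/

theorem dec_nz : ∀ i j : ZMod 3, (i, j) ≠ (0 : ZMod 3 × ZMod 3) →
    (i, j) ∉ ([(1, 0), (2, 0), (0, 1), (0, 2)] : List (ZMod 3 × ZMod 3)) → i ≠ 0 ∧ j ≠ 0 := by
  decide

theorem dec_cover : ∀ i j k l : ZMod 3, i ≠ 0 ∧ j ≠ 0 → k ≠ 0 ∧ l ≠ 0 →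
    (k, l) = (i, j) ∨ (k, l) = (-j, i) ∨ (k, l) = (-i, -j) ∨ (k, l) = (j, -i) := by
  decide

theorem dec_pair' : ∀ z ∈ ([(1, 0), (2, 0), (0, 1), (0, 2)] : List (ZMod 3 × ZMod 3)), ∀ w ∈
    ([(1, 0), (2, 0), (0, 1), (0, 2)] : List (ZMod 3 × ZMod 3)), z + w = (1, 1) →
    (z = (1, 0) ∧ w = (0, 1)) ∨ (z = (0, 1) ∧ w = (1, 0)) := by
  decide

/-! ### One half -/

namespace Half

variable {M : Sylow 3 G} {a R T : G}

theorem conj_mem (_h : Half M a R T) {n u : G}
    (hn : n ∈ normalizer ((M : Subgroup G) : Set G)) (hu : u ∈ (M : Subgroup G)) :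
    n * u * n⁻¹ ∈ (M : Subgroup G) := (hn u).mp hu

theorem rot_mem (h : Half M a R T) : rot R a ∈ (M : Subgroup G) := h.conj_mem h.rMem h.mem

theorem basis (h : Half M a R T) : Basis₂ M a (rot R a) :=
  ⟨h.ctx, h.mem, h.rot_mem, h.ne, fun e => h.ne (conj_eq_one_iff.mp e), h.ind.1, h.ind.2⟩

theorem tinv (h : Half M a R T) : T⁻¹ = T := inv_eq_of_mul_eq_one_right h.tt

theorem rot_rot (h : Half M a R T) : R * rot R a * R⁻¹ = a⁻¹ := by
  rw [rot, ← h.neg]; group

theorem neg_rot (h : Half M a R T) : R * R * rot R a * (R * R)⁻¹ = (rot R a)⁻¹ :=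
  calc R * R * rot R a * (R * R)⁻¹ = R * (R * R * a * (R * R)⁻¹) * R⁻¹ := by
        simp only [rot]; group
    _ = (rot R a)⁻¹ := by rw [h.neg, rot]; group

theorem neg' (h : Half M a R T) : (R * R)⁻¹ * a * (R * R) = a⁻¹ := by
  conv_lhs => rw [show a = (R * R * a * (R * R)⁻¹)⁻¹ by rw [h.neg, inv_inv]]
  group

theorem trt' (h : Half M a R T) : T * R⁻¹ * T = R := by
  have := congrArg Inv.inv h.trt
  simp only [mul_inv_rev, inv_inv, h.tinv] at this
  rw [← mul_assoc] at this
  exact this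

theorem tbt (h : Half M a R T) : T * rot R a * T = (rot R a)⁻¹ :=
  calc T * rot R a * T = T * R * (T * T) * a * (T * T) * R⁻¹ * T := by
        rw [h.tt]; simp only [rot, mul_one, mul_assoc]
    _ = T * R * T * (T * a * T) * (T * R⁻¹ * T) := by simp only [mul_assoc]
    _ = R * ((R * R)⁻¹ * a * (R * R)) * R⁻¹ := by rw [h.trt, h.fixed, h.trt']; group
    _ = (rot R a)⁻¹ := by rw [h.neg', rot]; group

theorem t_ne (h : Half M a R T) : T ≠ 1 := fun e => by
  have := h.tbt
  rw [e, one_mul, mul_one] at this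
  exact h.basis.b1 (eq_one_of_sq (h.ctx.cube _ h.rot_mem) this)

theorem t_notMem [Finite G] (h : Half M a R T) : T ∉ (M : Subgroup G) := fun e =>
  h.t_ne (h.ctx.eq_one_of_two e h.tt)

theorem rot_pp (h : Half M a R T) (i j : ZMod 3) :
    R * pp a (rot R a) (i, j) * R⁻¹ = pp a (rot R a) (-j, i) := by
  rw [conj_pp, h.rot_rot, show R * a * R⁻¹ = rot R a from rfl]
  simp only [pp]
  rw [inv_pow, inv_pow_val (h.ctx.cube a h.mem), h.basis.comm]

theorem t_pp (h : Half M a R T) (i j : ZMod 3) :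
    T * pp a (rot R a) (i, j) * T = pp a (rot R a) (i, -j) := by
  nth_rw 2 [← h.tinv]
  rw [conj_pp, h.tinv, h.fixed, h.tbt]
  simp only [pp]
  rw [inv_pow, inv_pow_val (h.ctx.cube _ h.rot_mem)]

theorem mem_or [Finite G] (h : Half M a R T) {g : G} (hg : g * a = a * g) :
    g ∈ (M : Subgroup G) ∨ g * T ∈ (M : Subgroup G) := by
  have hn := h.ctx.loc a h.mem h.ne (mem_centralizer_singleton_iff.mpr hg)
  have ga : g * a * g⁻¹ = a := mul_inv_eq_iff_eq_mul.mpr hg
  have B := h.basis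
  have ha := h.ctx.cube a h.mem
  have key : ∀ k ∈ normalizer ((M : Subgroup G) : Set G), k * a * k⁻¹ = a → ∀ i : ZMod 3,
      k * rot R a * k⁻¹ = pp a (rot R a) (i, 1) → k ∈ (M : Subgroup G) := by
    intro k hk hka i hkb
    have st : ∀ j : ZMod 3, k * pp a (rot R a) (j, 1) * k⁻¹ = pp a (rot R a) (j + i, 1) := by
      intro j
      rw [conj_pp, hka, hkb, pp]
      simp only [pp]
      rw [show (1 : ZMod 3).val = 1 from rfl, pow_one, pow_one, ← mul_assoc, pow_val_add ha]
    have h3 : k ^ 3 * rot R a * (k ^ 3)⁻¹ = rot R a := by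
      calc k ^ 3 * rot R a * (k ^ 3)⁻¹ = k * (k * (k * rot R a * k⁻¹) * k⁻¹) * k⁻¹ := by
            simp only [pow_succ, pow_zero, one_mul, mul_inv_rev, mul_assoc]
        _ = pp a (rot R a) (i + i + i, 1) := by rw [hkb, st, st]
        _ = rot R a := by
          rw [(by decide : ∀ i : ZMod 3, i + i + i = 0) i]
          simp [pp, show (1 : ZMod 3).val = 1 from rfl]
    have h3a : k ^ 3 * a * (k ^ 3)⁻¹ = a := by
      calc k ^ 3 * a * (k ^ 3)⁻¹ = k * (k * (k * a * k⁻¹) * k⁻¹) * k⁻¹ := by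
            simp only [pow_succ, pow_zero, one_mul, mul_inv_rev, mul_assoc]
        _ = a := by rw [hka, hka, hka]
    refine h.ctx.mem_of_nine ?_ hk
    rw [show 9 = 3 * 3 from rfl, pow_mul]
    exact h.ctx.cube _ (B.conj_eq h3a h3)
  obtain ⟨⟨i, j⟩, hij⟩ := B.surj (h.conj_mem hn h.rot_mem)
  have hj : j ≠ 0 := by
    rintro rfl
    have e1 : rot R a = a ^ i.val := by
      have h0 : g * rot R a * g⁻¹ = g * a ^ i.val * g⁻¹ := by
        rw [← hij, ← conj_pow, ga]; simp [pp]
      exact mul_left_cancel (mul_right_cancel h0)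
    have := (B.indep (k := i) (l := 1) (by rw [← e1]; simp [show (1 : ZMod 3).val = 1 from rfl])).2
    exact absurd this (by decide)
  rcases (by decide : ∀ j : ZMod 3, j ≠ 0 → j = 1 ∨ j = 2) j hj with rfl | rfl
  · exact Or.inl (key g hn ga i hij.symm)
  · refine Or.inr (key (g * T) (mul_mem hn h.tMem) ?_ (-i) ?_)
    · calc g * T * a * (g * T)⁻¹ = g * (T * a * T⁻¹) * g⁻¹ := by group
        _ = a := by rw [h.tinv, h.fixed, ga]
    · calc g * T * rot R a * (g * T)⁻¹ = g * (T * rot R a * T⁻¹) * g⁻¹ := by group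
        _ = (g * rot R a * g⁻¹)⁻¹ := by rw [h.tinv, h.tbt]; group
        _ = pp a (rot R a) (-i, 1) := by
          rw [← hij, B.pp_neg]
          congr 1

theorem mem_centralizer [Finite G] (h : Half M a R T) {g : G} (hg : g ∈ (M : Subgroup G)) :
    g * a = a * g ∧ g * T * a = a * (g * T) := by
  have h1 := h.ctx.comm g hg a h.mem
  refine ⟨h1, ?_⟩
  have hTa : T * a = a * T := by
    conv_rhs => rw [← h.fixed, mul_assoc, h.tt, mul_one]
  rw [mul_assoc, hTa, ← mul_assoc, h1, mul_assoc]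

theorem card_centralizer [Finite G] (h : Half M a R T) :
    Nat.card (Subgroup.centralizer ({a} : Set G)) = 18 := by
  let f : ↥(M : Subgroup G) ⊕ ↥(M : Subgroup G) → ↥(Subgroup.centralizer ({a} : Set G)) :=
    Sum.elim (fun m => ⟨m, mem_centralizer_singleton_iff.mpr (h.mem_centralizer m.2).1⟩)
      (fun m => ⟨m * T, mem_centralizer_singleton_iff.mpr (h.mem_centralizer m.2).2⟩)
  have hf : Function.Bijective f := by
    refine ⟨?_, ?_⟩
    · rintro (m | m) (n | n) e <;> simp only [f, Sum.elim_inl, Sum.elim_inr, Subtype.mk.injEq] at e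
      · exact congrArg _ (Subtype.ext e)
      · refine absurd ?_ h.t_notMem
        rw [show T = (n : G)⁻¹ * (m : G) by rw [e]; group]
        exact mul_mem (inv_mem n.2) m.2
      · refine absurd ?_ h.t_notMem
        rw [show T = (m : G)⁻¹ * (n : G) by rw [← e]; group]
        exact mul_mem (inv_mem m.2) n.2
      · exact congrArg _ (Subtype.ext (mul_right_cancel e))
    · rintro ⟨g, hg⟩
      rcases h.mem_or (mem_centralizer_singleton_iff.mp hg) with hm | hm
      · exact ⟨Sum.inl ⟨g, hm⟩, rfl⟩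
      · exact ⟨Sum.inr ⟨g * T, hm⟩, Subtype.ext (by simp [f, mul_assoc, h.tt])⟩
  rw [← Nat.card_congr (Equiv.ofBijective f hf), Nat.card_sum, h.ctx.card]

theorem orb_pp (h : Half M a R T) {u : G} :
    Orb R a u ↔ ∃ z ∈ ([(1, 0), (2, 0), (0, 1), (0, 2)] : List (ZMod 3 × ZMod 3)),
      pp a (rot R a) z = u := by
  have e1 : pp a (rot R a) (1, 0) = a := by simp [pp, show (1 : ZMod 3).val = 1 from rfl]
  have e2 : pp a (rot R a) (2, 0) = a⁻¹ := by
    simp [pp, show (2 : ZMod 3).val = 2 from rfl, inv_eq_sq (h.ctx.cube a h.mem)]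
  have e3 : pp a (rot R a) (0, 1) = rot R a := by
    simp [pp, show (1 : ZMod 3).val = 1 from rfl]
  have e4 : pp a (rot R a) (0, 2) = (rot R a)⁻¹ := by
    simp [pp, show (2 : ZMod 3).val = 2 from rfl, inv_eq_sq (h.ctx.cube _ h.rot_mem)]
  simp only [List.mem_cons, List.not_mem_nil, or_false, exists_eq_or_imp, exists_eq_left, e1, e2,
    e3, e4, Orb, eq_comm]

theorem exists_of_orb (h : Half M a R T) {u : G} (hu : Orb R a u) :
    ∃ n ∈ normalizer ((M : Subgroup G) : Set G), n * a * n⁻¹ = u := by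
  rcases hu with rfl | rfl | rfl | rfl
  · exact ⟨1, one_mem _, by group⟩
  · exact ⟨R * R, mul_mem h.rMem h.rMem, h.neg⟩
  · exact ⟨R, h.rMem, rfl⟩
  · exact ⟨R * (R * R), mul_mem h.rMem (mul_mem h.rMem h.rMem), by
      calc R * (R * R) * a * (R * (R * R))⁻¹ = R * (R * R * a * (R * R)⁻¹) * R⁻¹ := by group
        _ = (rot R a)⁻¹ := by rw [h.neg, rot]; group⟩

theorem orb_conj [Finite G] (h : Half M a R T) {n : G}
    (hn : n ∈ normalizer ((M : Subgroup G) : Set G)) : Orb R a (n * a * n⁻¹) := by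
  have B := h.basis
  by_contra hc
  obtain ⟨⟨i, j⟩, hij⟩ := B.surj (h.conj_mem hn h.mem)
  have hne : pp a (rot R a) (i, j) ≠ pp a (rot R a) 0 := by
    rw [hij, B.pp_zero]; exact fun e => h.ne (conj_eq_one_iff.mp e)
  have hi : i ≠ 0 ∧ j ≠ 0 := by
    have h0 : (i, j) ≠ (0 : ZMod 3 × ZMod 3) := fun e => hne (by rw [e])
    have h1 : (i, j) ∉ ([(1, 0), (2, 0), (0, 1), (0, 2)] : List (ZMod 3 × ZMod 3)) :=
      fun e => hc (h.orb_pp.mpr ⟨_, e, hij⟩)
    exact dec_nz i j h0 h1
  have all : ∀ v ∈ (M : Subgroup G), v ≠ 1 →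
      ∃ m ∈ normalizer ((M : Subgroup G) : Set G), m * a * m⁻¹ = v := by
    intro v hv hv1
    obtain ⟨⟨k, l⟩, rfl⟩ := B.surj hv
    by_cases hvo : Orb R a (pp a (rot R a) (k, l))
    · exact h.exists_of_orb hvo
    have hkl : k ≠ 0 ∧ l ≠ 0 := by
      have h0 : (k, l) ≠ (0 : ZMod 3 × ZMod 3) := fun e => hv1 (by rw [e, B.pp_zero])
      have h1 : (k, l) ∉ ([(1, 0), (2, 0), (0, 1), (0, 2)] : List (ZMod 3 × ZMod 3)) :=
        fun e => hvo (h.orb_pp.mpr ⟨_, e, rfl⟩)
      exact dec_nz k l h0 h1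
    have step : ∀ (p q : ZMod 3) (m : G), m * a * m⁻¹ = pp a (rot R a) (p, q) →
        R * m * a * (R * m)⁻¹ = pp a (rot R a) (-q, p) := fun p q m hm => by
      rw [← h.rot_pp, ← hm]; group
    rcases dec_cover i j k l hi hkl with e | e | e | e <;> rw [e]
    · exact ⟨n, hn, hij.symm⟩
    · exact ⟨R * n, mul_mem h.rMem hn, step i j n hij.symm⟩
    · exact ⟨R * (R * n), mul_mem h.rMem (mul_mem h.rMem hn),
        step _ _ _ (step i j n hij.symm)⟩
    · refine ⟨R * (R * (R * n)), mul_mem h.rMem (mul_mem h.rMem (mul_mem h.rMem hn)), ?_⟩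
      rw [step _ _ _ (step _ _ _ (step i j n hij.symm)), neg_neg]
  choose m hmN hm using fun v : {v : ↥(M : Subgroup G) // v ≠ 1} =>
    all v.1 v.1.2 (fun e => v.2 (Subtype.ext e))
  let F : {v : ↥(M : Subgroup G) // v ≠ 1} × ↥(Subgroup.centralizer ({a} : Set G)) →
      ↥(normalizer ((M : Subgroup G) : Set G)) :=
    fun p => ⟨m p.1 * p.2, mul_mem (hmN _) (h.ctx.loc a h.mem h.ne p.2.2)⟩
  have hcv : ∀ (v : {v : ↥(M : Subgroup G) // v ≠ 1}) (c : ↥(Subgroup.centralizer ({a} : Set G))),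
      m v * c * a * (m v * c)⁻¹ = (v.1 : G) := fun v c => by
    calc m v * c * a * (m v * c)⁻¹ = m v * ((c : G) * a * (c : G)⁻¹) * (m v)⁻¹ := by group
      _ = _ := by
        rw [mul_inv_eq_iff_eq_mul.mpr (mem_centralizer_singleton_iff.mp c.2)]
        exact hm v
  have hF : Function.Bijective F := by
    refine ⟨?_, ?_⟩
    · rintro ⟨v, c⟩ ⟨w, d⟩ e
      have e' : m v * c = m w * d := congrArg Subtype.val e
      have : v = w := Subtype.ext (Subtype.ext (by rw [← hcv v c, e', hcv]))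
      subst this
      exact congrArg _ (Subtype.ext (mul_left_cancel e'))
    · rintro ⟨k, hk⟩
      let v : {v : ↥(M : Subgroup G) // v ≠ 1} := ⟨⟨k * a * k⁻¹, h.conj_mem hk h.mem⟩,
        fun e => h.ne (conj_eq_one_iff.mp (congrArg Subtype.val e))⟩
      refine ⟨(v, ⟨(m v)⁻¹ * k, mem_centralizer_singleton_iff.mpr ?_⟩),
        Subtype.ext (mul_inv_cancel_left _ _)⟩
      have : (m v)⁻¹ * k * a * ((m v)⁻¹ * k)⁻¹ = a := by
        calc (m v)⁻¹ * k * a * ((m v)⁻¹ * k)⁻¹ = (m v)⁻¹ * (k * a * k⁻¹) * m v := by group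
          _ = (m v)⁻¹ * (m v * a * (m v)⁻¹) * m v := by rw [hm v]
          _ = a := by group
      exact mul_inv_eq_iff_eq_mul.mp this
  have hN : Nat.card ↥(normalizer ((M : Subgroup G) : Set G)) = 144 := by
    rw [← Nat.card_congr (Equiv.ofBijective F hF), Nat.card_prod, h.card_centralizer]
    haveI := Fintype.ofFinite ↥(M : Subgroup G)
    classical
    rw [Nat.card_eq_fintype_card (α := {v : ↥(M : Subgroup G) // v ≠ 1}),
      Fintype.card_subtype_compl, Fintype.card_subtype_eq, ← Nat.card_eq_fintype_card, h.ctx.card]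
  obtain ⟨S⟩ := Sylow.nonempty (p := 2) (G := ↥(normalizer ((M : Subgroup G) : Set G)))
  have := S.pow_dvd_card_of_pow_dvd_card (n := 4) (by rw [hN]; norm_num)
  rw [h.ctx.eight S] at this
  norm_num at this

theorem orb_of_isConj [Finite G] (h : Half M a R T) {u : G} (hu : u ∈ (M : Subgroup G))
    (hc : IsConj a u) : Orb R a u := by
  obtain ⟨c, rfl⟩ := isConj_iff.mp hc
  exact h.orb_conj (h.ctx.toLoc.mem_normalizer h.mem h.ne hu)

theorem isConj_of_orb (h : Half M a R T) {u : G} (hu : Orb R a u) : IsConj a u := by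
  obtain ⟨n, -, hn⟩ := h.exists_of_orb hu
  exact isConj_iff.mpr ⟨n, hn⟩

theorem isConj_inv (h : Half M a R T) : IsConj a a⁻¹ := h.isConj_of_orb (Or.inr (Or.inl rfl))

theorem isConj_rot (h : Half M a R T) : IsConj a (rot R a) :=
  h.isConj_of_orb (Or.inr (Or.inr (Or.inl rfl)))

theorem mul_rot_eq (h : Half M a R T) : a * rot R a = pp a (rot R a) (1, 1) := by
  simp [pp, show (1 : ZMod 3).val = 1 from rfl]

theorem not_conj_mul [Finite G] (h : Half M a R T) : ¬ IsConj a (a * rot R a) := by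
  intro hc
  have := h.orb_of_isConj (mul_mem h.mem h.rot_mem) hc
  rw [h.mul_rot_eq, h.orb_pp] at this
  obtain ⟨z, hz, e⟩ := this
  rw [h.basis.inj e] at hz
  exact absurd hz (by decide)

theorem not_conj_mul_inv [Finite G] (h : Half M a R T) : ¬ IsConj a (a * rot R a)⁻¹ := by
  intro hc
  have := h.orb_of_isConj (inv_mem (mul_mem h.mem h.rot_mem)) hc
  rw [h.mul_rot_eq, h.basis.pp_neg, h.orb_pp] at this
  obtain ⟨z, hz, e⟩ := this
  rw [h.basis.inj e] at hz
  exact absurd hz (by decide)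

/-! ### The elements of order two and six -/

theorem neg_all [Finite G] (h : Half M a R T) {u : G} (hu : u ∈ (M : Subgroup G)) :
    R * R * u * (R * R)⁻¹ = u⁻¹ := h.basis.conj_inv h.neg h.neg_rot hu

theorem zz [Finite G] (h : Half M a R T) : R * R * (R * R) = 1 := by
  have two : ∀ u ∈ (M : Subgroup G), R * R * (R * R) * u * (R * R * (R * R))⁻¹ = u := by
    intro u hu
    calc R * R * (R * R) * u * (R * R * (R * R))⁻¹
        = R * R * (R * R * u * (R * R)⁻¹) * (R * R)⁻¹ := by group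
      _ = u := by rw [h.neg_all hu, h.neg_all (inv_mem hu), inv_inv]
  have hm : R * R * (R * R) ∈ (M : Subgroup G) :=
    h.basis.conj_eq (two a h.mem) (two _ h.rot_mem)
  refine eq_one_of_sq (h.ctx.cube _ hm) ?_
  rw [← h.neg_all hm]
  simp [mul_assoc]

theorem z_commute [Finite G] (h : Half M a R T) : R * R * T = T * (R * R) := by
  have e : T * (R * R) * T = R * R := by
    calc T * (R * R) * T = T * R * (T * T) * R * T := by
          rw [h.tt]; simp only [mul_one, mul_assoc]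
      _ = T * R * T * (T * R * T) := by simp only [mul_assoc]
      _ = (R * R)⁻¹ := by rw [h.trt]; group
      _ = R * R := inv_eq_of_mul_eq_one_right h.zz
  calc R * R * T = T * (R * R) * T * T := by rw [e]
    _ = T * (R * R) := by rw [mul_assoc, h.tt, mul_one]

theorem comm_t (h : Half M a R T) : Commute a T := by
  show a * T = T * a
  conv_lhs => rw [← h.fixed, mul_assoc, h.tt, mul_one]

theorem pow_three (h : Half M a R T) : (a * T) ^ 3 = T := by
  rw [h.comm_t.mul_pow, h.ctx.cube a h.mem, one_mul, pow_succ, pow_two, h.tt, one_mul]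

theorem pow_four (h : Half M a R T) : (a * T) ^ 4 = a := by
  rw [h.comm_t.mul_pow, pow_succ a, h.ctx.cube a h.mem, one_mul, pow_succ, pow_succ, pow_two,
    h.tt, one_mul, h.tt, mul_one]

theorem pow_six (h : Half M a R T) : (a * T) ^ 6 = 1 := by
  rw [show 6 = 3 * 2 from rfl, pow_mul, h.pow_three, pow_two, h.tt]

theorem isConj_t_inv [Finite G] (h : Half M a R T) : IsConj (a * T) (a * T)⁻¹ := by
  refine isConj_iff.mpr ⟨R * R, ?_⟩
  calc R * R * (a * T) * (R * R)⁻¹
      = (R * R * a * (R * R)⁻¹) * (R * R * T * (R * R)⁻¹) := by group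
    _ = a⁻¹ * T := by rw [h.neg, h.z_commute, mul_inv_cancel_right]
    _ = (a * T)⁻¹ := by
      rw [mul_inv_rev, h.tinv]
      exact h.comm_t.inv_left.eq

theorem not_conj_a_t (h : Half M a R T) : ¬ IsConj a (a * T) := fun hc => by
  have := hc.pow 3
  rw [h.ctx.cube a h.mem, h.pow_three, isConj_one_right] at this
  exact h.t_ne this

theorem order_two (h : Half M a R T) : orderOf T = 2 :=
  orderOf_eq_prime (by rw [pow_two, h.tt]) h.t_ne

theorem not_conj_invol (h : Half M a R T) {i : G} (hi : i * i = 1) :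
    ¬ IsConj i a ∧ ¬ IsConj i (a * T) := by
  constructor
  · intro hc
    have := hc.pow 2
    rw [pow_two, hi, isConj_one_right, inv_eq_sq (h.ctx.cube a h.mem), inv_eq_one] at this
    exact h.ne this
  · intro hc
    have := hc.pow 2
    rw [pow_two, hi, isConj_one_right, h.comm_t.mul_pow, pow_two T, h.tt, mul_one,
      inv_eq_sq (h.ctx.cube a h.mem), inv_eq_one] at this
    exact h.ne this

theorem card_centralizer_t [Finite G] (h : Half M a R T) :
    Nat.card (Subgroup.centralizer ({a * T} : Set G)) = 6 := by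
  have B := h.basis
  have ha := h.ctx.cube a h.mem
  have hmem : ∀ i : ZMod 3, Commute (a ^ i.val) (a * T) ∧ Commute (a ^ i.val * T) (a * T) :=
    fun i => by
      have e1 : Commute (a ^ i.val) (a * T) :=
        ((Commute.refl a).mul_right h.comm_t).pow_left _
      exact ⟨e1, e1.mul_left (h.comm_t.symm.mul_right (Commute.refl T))⟩
  let f : ZMod 3 ⊕ ZMod 3 → ↥(Subgroup.centralizer ({a * T} : Set G)) :=
    Sum.elim (fun i => ⟨a ^ i.val, mem_centralizer_singleton_iff.mpr (hmem i).1.eq⟩)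
      (fun i => ⟨a ^ i.val * T, mem_centralizer_singleton_iff.mpr (hmem i).2.eq⟩)
  have hinj : ∀ i k : ZMod 3, a ^ i.val = a ^ k.val → i = k := fun i k e =>
    sub_eq_zero.mp (pow_val_eq_one ha h.ne (by
      rw [sub_eq_add_neg, ← pow_val_add ha, e, pow_val_add ha, add_neg_cancel]; simp))
  have hf : Function.Bijective f := by
    refine ⟨?_, ?_⟩
    · rintro (i | i) (k | k) e <;> simp only [f, Sum.elim_inl, Sum.elim_inr, Subtype.mk.injEq] at e
      · exact congrArg _ (hinj i k e)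
      · refine absurd ?_ h.t_notMem
        rw [show T = (a ^ k.val)⁻¹ * a ^ i.val by rw [e]; group]
        exact mul_mem (inv_mem (pow_mem h.mem _)) (pow_mem h.mem _)
      · refine absurd ?_ h.t_notMem
        rw [show T = (a ^ i.val)⁻¹ * a ^ k.val by rw [← e]; group]
        exact mul_mem (inv_mem (pow_mem h.mem _)) (pow_mem h.mem _)
      · exact congrArg _ (hinj i k (mul_right_cancel e))
    · rintro ⟨g, hg⟩
      have hg' : Commute g (a * T) := mem_centralizer_singleton_iff.mp hg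
      have hga : g * a = a * g := by have := (hg'.pow_right 4).eq; rwa [h.pow_four] at this
      have hgT : Commute g T := by have := hg'.pow_right 3; rwa [h.pow_three] at this
      have fix : ∀ u ∈ (M : Subgroup G), Commute u T → ∃ i : ZMod 3, a ^ i.val = u := by
        intro u hu huT
        obtain ⟨⟨i, j⟩, rfl⟩ := B.surj hu
        have e : T * pp a (rot R a) (i, j) * T = pp a (rot R a) (i, j) := by
          rw [← huT.eq, mul_assoc, h.tt, mul_one]
        rw [h.t_pp] at e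
        have hj : j = 0 := by
          have := congrArg Prod.snd (B.inj e)
          simp only at this
          exact (by decide : ∀ j : ZMod 3, -j = j → j = 0) j this
        exact ⟨i, by simp [pp, hj]⟩
      rcases h.mem_or hga with hm | hm
      · obtain ⟨i, hi⟩ := fix g hm hgT
        exact ⟨Sum.inl i, Subtype.ext hi⟩
      · obtain ⟨i, hi⟩ := fix _ hm (hgT.mul_left (Commute.refl T))
        exact ⟨Sum.inr i, Subtype.ext (by simp [f, hi, mul_assoc, h.tt])⟩
  rw [← Nat.card_congr (Equiv.ofBijective f hf), Nat.card_sum, Nat.card_zmod]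

/-! ### The second half -/

theorem second [Finite G] (h : Half M a R T) : Half M (a * rot R a) R (R * T) where
  ctx := h.ctx
  mem := mul_mem h.mem h.rot_mem
  ne e := h.ind.2 (eq_inv_of_mul_eq_one_right e)
  rMem := h.rMem
  tMem := mul_mem h.rMem h.tMem
  tt := by rw [mul_assoc, ← mul_assoc T, h.trt, mul_inv_cancel]
  trt := by
    calc R * T * R * (R * T) = R * T * R * (T * T) * (R * T) := by rw [h.tt, mul_one]
      _ = R * (T * R * T) * (T * R * T) := by simp only [mul_assoc]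
      _ = R⁻¹ := by rw [h.trt]; group
  fixed := by
    calc R * T * (a * rot R a) * (R * T)
        = R * (T * a * (T * T) * rot R a * (T * T)) * (R * T) := by
          rw [h.tt]; simp only [mul_one, mul_assoc]
      _ = R * (T * a * T * (T * rot R a * T)) * (T * R * T) := by simp only [mul_assoc]
      _ = R * a * R⁻¹ * (R * rot R a * R⁻¹)⁻¹ := by rw [h.trt, h.fixed, h.tbt]; group
      _ = a * rot R a := by
        rw [h.rot_rot, inv_inv]; exact h.ctx.comm _ h.rot_mem _ h.mem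
  neg := h.neg_all (mul_mem h.mem h.rot_mem)
  ind := by
    have B := h.basis
    have e : rot R (a * rot R a) = pp a (rot R a) (-1, 1) := by
      rw [← h.rot_pp 1 1, ← h.mul_rot_eq]; rfl
    rw [e, h.mul_rot_eq, B.pp_neg]
    exact ⟨fun e' => absurd (B.inj e') (by decide), fun e' => absurd (B.inj e') (by decide)⟩

theorem second_mul [Finite G] (h : Half M a R T) :
    IsConj a (a * rot R a * rot R (a * rot R a)) := by
  refine h.isConj_of_orb ?_
  have e : rot R (a * rot R a) = pp a (rot R a) (-1, 1) := by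
    rw [← h.rot_pp 1 1, ← h.mul_rot_eq]; rfl
  rw [e, h.mul_rot_eq, h.basis.pp_add, h.orb_pp]
  exact ⟨_, by decide, rfl⟩

theorem not_conj_cross [Finite G] (h : Half M a R T) :
    ¬ IsConj (a * T) (a * rot R a * (R * T)) := fun hc => by
  have := hc.pow 4
  rw [h.pow_four, h.second.pow_four] at this
  exact h.not_conj_mul this

theorem not_conj_a_cross [Finite G] (h : Half M a R T) :
    ¬ IsConj a (a * rot R a * (R * T)) := fun hc => by
  have := hc.pow 3
  rw [h.ctx.cube a h.mem, h.second.pow_three, isConj_one_right] at this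
  exact h.second.t_ne this

theorem not_conj_cross_a [Finite G] (h : Half M a R T) :
    ¬ IsConj (a * rot R a) (a * T) := fun hc => by
  have := hc.pow 3
  rw [h.ctx.cube _ h.second.mem, h.pow_three, isConj_one_right] at this
  exact h.t_ne this

/-! ### Pairs -/

theorem pair_iff [Finite G] (h : Half M a R T) (x y : G) :
    (IsConj a x ∧ IsConj a y ∧ x * y = a * rot R a) ↔
      (x = a ∧ y = rot R a) ∨ (x = rot R a ∧ y = a) := by
  constructor
  · rintro ⟨hx, hy, hxy⟩
    have B := h.basis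
    set w := a * rot R a with hw
    have hwM : w ∈ (M : Subgroup G) := mul_mem h.mem h.rot_mem
    have hw1 : w ≠ 1 := h.second.ne
    have cube' : ∀ u, IsConj a u → u ^ 3 = 1 := fun u hu => by
      have := hu.pow 3; rwa [h.ctx.cube a h.mem, isConj_one_right] at this
    have hxM : x ∈ (M : Subgroup G) := by
      have hpq : (x * w⁻¹) ^ 3 = 1 := by
        rw [← hxy, mul_inv_rev, show x * (y⁻¹ * x⁻¹) = x * y⁻¹ * x⁻¹ by group, conj_pow, inv_pow,
          cube' y hy]
        group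
      rcases h.ctx.toLoc.commute_or_conj (cube' x hx)
          (h.ctx.cube _ (inv_mem hwM)) hpq with hc | ⟨hc, -⟩
      · exact h.ctx.toLoc.mem_of_commute (inv_mem hwM) (inv_ne_one.mpr hw1) (cube' x hx) hc
      · exact absurd (hx.trans hc) h.not_conj_mul_inv
    have hyM : y ∈ (M : Subgroup G) := by
      rw [show y = x⁻¹ * w by rw [← hxy]; group]; exact mul_mem (inv_mem hxM) hwM
    obtain ⟨z, hz, rfl⟩ := h.orb_pp.mp (h.orb_of_isConj hxM hx)
    obtain ⟨z', hz', rfl⟩ := h.orb_pp.mp (h.orb_of_isConj hyM hy)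
    rw [B.pp_add, hw, h.mul_rot_eq] at hxy
    have hs := B.inj hxy
    have : (z = (1, 0) ∧ z' = (0, 1)) ∨ (z = (0, 1) ∧ z' = (1, 0)) := by
      exact dec_pair' z hz z' hz' hs
    rcases this with ⟨rfl, rfl⟩ | ⟨rfl, rfl⟩
    · exact Or.inl (by simp [pp, show (1 : ZMod 3).val = 1 from rfl])
    · exact Or.inr (by simp [pp, show (1 : ZMod 3).val = 1 from rfl])
  · rintro (⟨rfl, rfl⟩ | ⟨rfl, rfl⟩)
    · exact ⟨IsConj.refl _, h.isConj_rot, rfl⟩
    · exact ⟨h.isConj_rot, IsConj.refl _, h.ctx.comm _ h.rot_mem _ h.mem⟩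

theorem no_pair [Finite G] (h : Half M a R T) {k y : G} (hk : k * k = 1) (hy : IsConj a y) :
    k * y ≠ a * rot R a := by
  intro hky
  set w := a * rot R a with hw
  have hwM : w ∈ (M : Subgroup G) := mul_mem h.mem h.rot_mem
  have hy3 : y ^ 3 = 1 := by
    have := hy.pow 3; rwa [h.ctx.cube a h.mem, isConj_one_right] at this
  obtain ⟨q, hq⟩ : ∃ q, q = w⁻¹ := ⟨_, rfl⟩
  have hq3 : q ^ 3 = 1 := hq ▸ h.ctx.cube _ (inv_mem hwM)
  have hki : k⁻¹ = k := inv_eq_of_mul_eq_one_right hk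
  have e : y * q = k := by
    rw [hq, ← hky, mul_inv_rev, mul_inv_cancel_left, hki]
  have hyq : y * q * (y * q) = 1 := by rw [e, hk]
  have hqy : q * y = y⁻¹ * q⁻¹ := by
    calc q * y = y⁻¹ * (y * q * (y * q)) * q⁻¹ := by group
      _ = y⁻¹ * q⁻¹ := by rw [hyq, mul_one]
  have hy2 : y⁻¹ * y⁻¹ = y := by
    rw [← mul_inv_rev, ← pow_two, inv_eq_sq hy3, inv_inv]
  have hq2 : q⁻¹ * q⁻¹ = q := by
    rw [← mul_inv_rev, ← pow_two, inv_eq_sq hq3, inv_inv]
  have hc : IsConj y q⁻¹ := isConj_iff.mpr ⟨y⁻¹ * q, by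
    calc y⁻¹ * q * y * (y⁻¹ * q)⁻¹ = y⁻¹ * (q * y) * q⁻¹ * y := by group
      _ = (y⁻¹ * y⁻¹) * (q⁻¹ * q⁻¹) * y := by rw [hqy]; simp only [mul_assoc]
      _ = y * q * (y * q) * q⁻¹ := by rw [hy2, hq2]; group
      _ = q⁻¹ := by rw [hyq, one_mul]⟩
  rw [hq, inv_inv] at hc
  exact h.not_conj_mul (hy.trans hc)

end Half

/-! ### Existence -/

theorem exists_half [Finite G] {M : Sylow 3 G} (C : Ctx M) {R T : G}
    (hR : R ∈ normalizer ((M : Subgroup G) : Set G))
    (hT : T ∈ normalizer ((M : Subgroup G) : Set G)) (hR4 : R * R * (R * R) = 1)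
    (hR2 : R * R ≠ 1) (hTT : T * T = 1) (hTRT : T * R * T = R⁻¹) : ∃ a, Half M a R T := by
  have hTi : T⁻¹ = T := inv_eq_of_mul_eq_one_right hTT
  have hzi : (R * R)⁻¹ = R * R := inv_eq_of_mul_eq_one_right hR4
  have conjM : ∀ n ∈ normalizer ((M : Subgroup G) : Set G), ∀ u ∈ (M : Subgroup G),
      n * u * n⁻¹ ∈ (M : Subgroup G) := fun n hn u hu => (hn u).mp hu
  have hTm : ∀ u ∈ (M : Subgroup G), T * u * T ∈ (M : Subgroup G) := fun u hu => by
    have := conjM T hT u hu; rwa [hTi] at this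
  have hzm : ∀ u ∈ (M : Subgroup G), R * R * u * (R * R)⁻¹ ∈ (M : Subgroup G) :=
    fun u hu => conjM _ (mul_mem hR hR) u hu
  have znot : ¬ ∀ u ∈ (M : Subgroup G), R * R * u * (R * R)⁻¹ = u := fun hall => by
    have hm : R * R ∈ (M : Subgroup G) := by
      rw [← C.self, Subgroup.mem_centralizer_iff]
      exact fun u hu => (mul_inv_eq_iff_eq_mul.mp (hall u hu)).symm
    exact hR2 (C.eq_one_of_two hm hR4)
  have hTR' : T * R⁻¹ * T = R := by
    have := congrArg Inv.inv hTRT
    simp only [mul_inv_rev, inv_inv, hTi] at this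
    rwa [← mul_assoc] at this
  have hTz : T * (R * R) = R * R * T := by
    calc T * (R * R) = T * R * (T * T) * R * (T * T) := by
          rw [hTT]; simp only [mul_one, mul_assoc]
      _ = T * R * T * (T * R * T) * T := by simp only [mul_assoc]
      _ = (R * R)⁻¹ * T := by rw [hTRT]; group
      _ = R * R * T := by rw [hzi]
  have zT : ∀ u, T * (R * R * u * (R * R)⁻¹) * T = R * R * (T * u * T) * (R * R)⁻¹ := fun u => by
    rw [hzi]
    calc T * (R * R * u * (R * R)) * T = T * (R * R) * u * (R * R * T) := by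
          simp only [mul_assoc]
      _ = R * R * T * u * (T * (R * R)) := by rw [hTz]
      _ = _ := by simp only [mul_assoc]
  -- an element fixed by `T`
  obtain ⟨m, hm, hm'⟩ : ∃ m ∈ (M : Subgroup G), T * m * T ≠ m⁻¹ := by
    by_contra hcon
    push Not at hcon
    refine znot fun u hu => ?_
    have h1 := hcon _ (conjM R hR _ (inv_mem hu))
    have h2 : T * (R * u⁻¹ * R⁻¹) * T = R⁻¹ * u * R := by
      calc T * (R * u⁻¹ * R⁻¹) * T = T * R * (T * T) * u⁻¹ * (T * T) * R⁻¹ * T := by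
            rw [hTT]; simp only [mul_one, mul_assoc]
        _ = T * R * T * (T * u⁻¹ * T) * (T * R⁻¹ * T) := by simp only [mul_assoc]
        _ = R⁻¹ * u * R := by rw [hTRT, hcon _ (inv_mem hu), inv_inv, hTR']
    rw [h2] at h1
    have h3 : R⁻¹ * u * R = R * u * R⁻¹ := h1.trans (by group)
    calc R * R * u * (R * R)⁻¹ = R * (R * u * R⁻¹) * R⁻¹ := by group
      _ = u := by rw [← h3]; group
  obtain ⟨a, ha⟩ : ∃ a, a = m * (T * m * T) := ⟨_, rfl⟩
  have haM : a ∈ (M : Subgroup G) := ha ▸ mul_mem hm (hTm m hm)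
  have ha1 : a ≠ 1 := fun e => hm' (eq_inv_of_mul_eq_one_right (ha ▸ e))
  have hfix : T * a * T = a := by
    calc T * a * T = T * m * (T * m) * (T * T) := by rw [ha]; simp only [mul_assoc]
      _ = T * m * T * m := by rw [hTT]; simp only [mul_one, mul_assoc]
      _ = a := by rw [ha]; exact C.comm _ (hTm m hm) _ hm
  -- an element inverted by `T`
  obtain ⟨n, hn, hn'⟩ : ∃ n ∈ (M : Subgroup G), T * n * T ≠ n := by
    by_contra hcon
    push Not at hcon
    have hTM : T ∈ (M : Subgroup G) := by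
      rw [← C.self, Subgroup.mem_centralizer_iff]
      intro u hu
      conv_lhs => rw [← hcon u hu, mul_assoc, hTT, mul_one]
    have hT1 := C.eq_one_of_two hTM hTT
    rw [hT1, one_mul, mul_one] at hTRT
    exact hR2 (mul_eq_one_iff_eq_inv.mpr hTRT)
  obtain ⟨c, hc⟩ : ∃ c, c = n * (T * n * T)⁻¹ := ⟨_, rfl⟩
  have hcM : c ∈ (M : Subgroup G) := hc ▸ mul_mem hn (inv_mem (hTm n hn))
  have hc1 : c ≠ 1 := fun e => hn' (mul_inv_eq_one.mp (hc ▸ e)).symm
  have hinv : T * c * T = c⁻¹ := by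
    calc T * c * T = T * n * (T⁻¹ * n⁻¹ * T⁻¹) * T := by
          rw [hc]; simp only [mul_inv_rev, mul_assoc]
      _ = T * n * T⁻¹ * n⁻¹ := by group
      _ = c⁻¹ := by rw [hc, mul_inv_rev, inv_inv, hTi]
  have ha3 := C.cube a haM
  have hc3 := C.cube c hcM
  have B : Basis₂ M a c := by
    refine ⟨C, haM, hcM, ha1, hc1, fun e => ?_, fun e => ?_⟩
    · rw [e, hfix] at hinv; exact ha1 (eq_one_of_sq ha3 hinv)
    · rw [e, inv_inv, show T * a⁻¹ * T = (T * a * T)⁻¹ by
        rw [mul_inv_rev, mul_inv_rev, hTi, mul_assoc], hfix] at hinv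
      exact ha1 (eq_one_of_sq ha3 hinv.symm)
  have Tpp : ∀ i j : ZMod 3, T * pp a c (i, j) * T = pp a c (i, -j) := fun i j => by
    nth_rw 2 [← hTi]
    rw [conj_pp, hTi, hfix, hinv]
    simp only [pp]
    rw [inv_pow, inv_pow_val hc3]
  have fixA : ∀ u ∈ (M : Subgroup G), T * u * T = u → u = 1 ∨ u = a ∨ u = a⁻¹ := by
    intro u hu hTu
    obtain ⟨⟨i, j⟩, rfl⟩ := B.surj hu
    rw [Tpp] at hTu
    have hj : j = 0 := by
      have := congrArg Prod.snd (B.inj hTu)
      simp only at this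
      exact (by decide : ∀ j : ZMod 3, -j = j → j = 0) j this
    subst hj
    simpa [pp] using pow_val_cases ha3 i
  have za : R * R * a * (R * R)⁻¹ = a ∨ R * R * a * (R * R)⁻¹ = a⁻¹ := by
    rcases fixA _ (hzm a haM) (by rw [zT, hfix]) with e | e | e
    · exact absurd (conj_eq_one_iff.mp e) ha1
    · exact Or.inl e
    · exact Or.inr e
  have hneg : R * R * a * (R * R)⁻¹ = a⁻¹ := by
    rcases za with hz | hz
    swap
    · exact hz
    exfalso
    have hbM : R * a * R⁻¹ ∈ (M : Subgroup G) := conjM R hR a haM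
    have zb : R * R * (R * a * R⁻¹) * (R * R)⁻¹ = R * a * R⁻¹ := by
      calc R * R * (R * a * R⁻¹) * (R * R)⁻¹ = R * (R * R * a * (R * R)⁻¹) * R⁻¹ := by group
        _ = _ := by rw [hz]
    by_cases hb : R * a * R⁻¹ = a ∨ R * a * R⁻¹ = a⁻¹
    · obtain ⟨e, he⟩ : ∃ e : ZMod 3, R * a * R⁻¹ = a ^ e.val := by
        rcases hb with hb | hb
        · exact ⟨1, by simpa [show (1 : ZMod 3).val = 1 from rfl] using hb⟩
        · exact ⟨2, by rw [hb, show (2 : ZMod 3).val = 2 from rfl, inv_eq_sq ha3]⟩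
      obtain ⟨⟨i, j⟩, hij⟩ := B.surj (conjM R hR c hcM)
      have he0 : e ≠ 0 := by
        rintro rfl; simp at he; exact ha1 he
      have hj : j ≠ 0 := by
        rintro rfl
        have : R * c * R⁻¹ = R * a ^ (i * e).val * R⁻¹ := by
          rw [← conj_pow, he, pow_val_pow ha3, ← hij]
          simp only [pp, ZMod.val_zero, pow_zero, mul_one]
          rw [(by decide : ∀ e i : ZMod 3, e ≠ 0 → e * (i * e) = i) e i he0]
        have hc' := mul_left_cancel (mul_right_cancel this)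
        have := (B.indep (k := i * e) (l := 1)
          (by rw [← hc']; simp [show (1 : ZMod 3).val = 1 from rfl])).2
        exact absurd this (by decide)
      obtain ⟨⟨p, q⟩, hpq⟩ := B.surj (hzm c hcM)
      have hpow : ∀ z : ZMod 3 × ZMod 3, ∀ k : ZMod 3,
          pp a c z ^ k.val = pp a c (z.1 * k, z.2 * k) := fun z k => by
        simp only [pp]
        rw [(show Commute (a ^ z.1.val) (c ^ z.2.val) from (B.comm _ _).symm).mul_pow,
          pow_val_pow ha3, pow_val_pow hc3]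
      have e1 : pp a c (p, q) = pp a c (e * i + i * j, j * j) := by
        calc pp a c (p, q) = R * (R * c * R⁻¹) * R⁻¹ := by rw [hpq]; group
          _ = pp (R * a * R⁻¹) (R * c * R⁻¹) (i, j) := by conv_lhs => rw [← hij, conj_pp]
          _ = a ^ (e * i).val * pp a c (i * j, j * j) := by
            rw [← hij, he]; simp only [pp]
            rw [pow_val_pow ha3]
            exact congrArg _ (hpow (i, j) j)
          _ = _ := by
            simp only [pp]; rw [← mul_assoc, pow_val_add ha3]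
      have e2 : pp a c (p, -q) = pp a c (-p, -q) := by
        rw [← Tpp, hpq, zT, hinv, show (-p, -q) = -(p, q) from rfl, ← B.pp_neg, hpq]
        simp only [mul_inv_rev, inv_inv, mul_assoc]
      have hp0 : p = 0 := by
        have := congrArg Prod.fst (B.inj e2)
        simp only at this
        exact (by decide : ∀ p : ZMod 3, p = -p → p = 0) p this
      have hq1 : q = 1 := by
        have := congrArg Prod.snd (B.inj e1)
        simp only at this
        exact (by decide : ∀ j q : ZMod 3, j ≠ 0 → q = j * j → q = 1) j q hj this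
      have zc : R * R * c * (R * R)⁻¹ = c := by
        rw [← hpq, hp0, hq1]; simp [pp, show (1 : ZMod 3).val = 1 from rfl]
      refine znot fun u hu => ?_
      obtain ⟨z, rfl⟩ := B.surj hu
      rw [conj_pp, hz, zc]
    · push Not at hb
      have B' : Basis₂ M a (R * a * R⁻¹) :=
        ⟨C, haM, hbM, ha1, fun e => ha1 (conj_eq_one_iff.mp e), hb.1, hb.2⟩
      refine znot fun u hu => ?_
      obtain ⟨z, rfl⟩ := B'.surj hu
      rw [conj_pp, hz, zb]
  have ne2 : a ≠ a⁻¹ := fun e => ha1 (eq_one_of_sq ha3 e)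
  refine ⟨a, C, haM, ha1, hR, hT, hTT, hTRT, hfix, hneg, fun e => ne2 ?_, fun e => ne2 ?_⟩
  · simp only [rot] at e
    calc a = R * (R * a * R⁻¹) * R⁻¹ := by rw [e, e]
      _ = R * R * a * (R * R)⁻¹ := by group
      _ = a⁻¹ := hneg
  · simp only [rot] at e
    calc a = (R * a * R⁻¹)⁻¹ := by rw [e, inv_inv]
      _ = R * a⁻¹ * R⁻¹ := by group
      _ = R * (R * a * R⁻¹) * R⁻¹ := by rw [e]
      _ = R * R * a * (R * R)⁻¹ := by group
      _ = a⁻¹ := hneg

end Cfsg.Agent.Lib.Characters.DihedralNine
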