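import Cfsg.Agent.Lib.Characters.DihedralNine.Chars
import Cfsg.Agent.Lib.Coprime.Generation
import Cfsg.Agent.Lib.InvChar.TwoTimesSymFourCases
import Cfsg.Agent.S3341
import Cfsg.Agent.S3805

/-!
# A self-centralizing `3²` with automiser `D₈`: normal, or the group is `S₆`
-/

set_option autoImplicit false
set_option linter.unusedSectionVars false

namespace Cfsg.Agent.Lib.Characters.DihedralNine

open Subgroup Cfsg.Agent.Lib.ThreeNine

universe u

variable {G : Type u} [Group G] [Finite G] {M : Sylow 3 G} {a R T : G}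

local notation "𝓝" => normalizer ((M : Subgroup G) : Set G)

theorem Half.card_coprime (h : Half M a R T) {K : Subgroup G} (h3 : ¬ 3 ∣ Nat.card K) :
    (Nat.card ↥(M : Subgroup G)).Coprime (Nat.card K) := by
  rw [h.ctx.card, show 9 = 3 ^ 2 from rfl]
  exact (Nat.prime_three.coprime_iff_not_dvd.mpr h3).pow_left 2

/-- No nontrivial `3'`-subgroup is normalized by `M`. -/
theorem Half.eq_bot_of_coprime (h : Half M a R T) {K : Subgroup G}
    (hMK : (M : Subgroup G) ≤ normalizer (K : Set G)) (h3 : ¬ 3 ∣ Nat.card K) : K = ⊥ := by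
  haveI : IsMulCommutative ↥(M : Subgroup G) :=
    ⟨⟨fun x y => Subtype.ext (h.ctx.comm _ x.2 _ y.2)⟩⟩
  have hnc : ¬ IsCyclic ↥(M : Subgroup G) := fun hc => by
    obtain ⟨g, hg⟩ := hc.exists_generator
    have h1 := orderOf_eq_card_of_forall_mem_zpowers hg
    have h2 : orderOf g ≤ 3 :=
      orderOf_le_of_pow_eq_one (by norm_num) (Subtype.ext (h.ctx.cube _ g.2))
    rw [h1, h.ctx.card] at h2
    omega
  rw [← Coprime.iSup_centralizer_eq hnc hMK (h.card_coprime h3), eq_bot_iff]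
  refine iSup₂_le fun s ⟨hs, hs1⟩ k ⟨hk, hks⟩ => ?_
  have hdis := disjoint_iff.mp
    (Subgroup.disjoint_of_coprime_natCard (h.card_coprime h3))
  have hkN := h.ctx.loc s hs hs1 hks
  have hkM : k ∈ (M : Subgroup G) := by
    rw [← h.ctx.self, Subgroup.mem_centralizer_iff]
    intro m hm
    have e : k * m * k⁻¹ * m⁻¹ = 1 := by
      rw [← Subgroup.mem_bot, ← hdis]
      refine ⟨(mul_mem (h.conj_mem hkN hm) (inv_mem hm) : k * m * k⁻¹ * m⁻¹ ∈ (M : Subgroup G)), ?_⟩
      show k * m * k⁻¹ * m⁻¹ ∈ K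
      rw [show k * m * k⁻¹ * m⁻¹ = k * (m * k⁻¹ * m⁻¹) by group]
      have hkK : k ∈ K := hk
      exact mul_mem hkK ((hMK hm k⁻¹).mp (inv_mem hkK))
    exact (mul_inv_eq_iff_eq_mul.mp (mul_inv_eq_one.mp e)).symm
  rw [← hdis]
  exact ⟨hkM, hk⟩

/-- A subgroup normalized by `R` that meets `M` contains it. -/
theorem Half.le_of_invariant (h : Half M a R T) {H : Subgroup G} {w : G}
    (hw : w ∈ (M : Subgroup G)) (hw1 : w ≠ 1) (hwH : w ∈ H) (hR : R * w * R⁻¹ ∈ H) :
    (M : Subgroup G) ≤ H := by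
  have hn : ¬ w = w⁻¹ := fun e => hw1 (eq_one_of_sq (h.ctx.cube w hw) e)
  have hz := h.neg_all hw
  have B : Basis₂ M w (R * w * R⁻¹) :=
    ⟨h.ctx, hw, h.conj_mem h.rMem hw, hw1, fun e => hw1 (conj_eq_one_iff.mp e),
      fun e => hn (by
        rw [← hz]
        calc w = R * (R * w * R⁻¹) * R⁻¹ := by rw [e, e]
          _ = _ := by group),
      fun e => hn (by
        rw [← hz]
        calc w = (R * w * R⁻¹)⁻¹ := by rw [e, inv_inv]
          _ = R * w⁻¹ * R⁻¹ := by group
          _ = R * (R * w * R⁻¹) * R⁻¹ := by rw [e]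
          _ = _ := by group)⟩
  intro m hm
  obtain ⟨z, rfl⟩ := B.surj hm
  exact mul_mem (pow_mem hwH _) (pow_mem hR _)

/-- `M` as a Sylow subgroup of a subgroup containing it. -/
theorem loc_subtype {H : Subgroup G} (C : Ctx M) (hMH : (M : Subgroup G) ≤ H) :
    Loc (M.subtype hMH) where
  comm x hx y hy := Subtype.ext (C.comm _ hx _ hy)
  cube x hx := Subtype.ext (C.cube _ hx)
  card := (Nat.card_congr (Subgroup.subgroupOfEquivOfLe hMH).toEquiv).trans C.card
  loc t ht ht1 g hg := by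
    have hgN : (g : G) ∈ 𝓝 := C.loc _ ht (fun e => ht1 (Subtype.ext e))
      (mem_centralizer_singleton_iff.mpr
        (congrArg Subtype.val (mem_centralizer_singleton_iff.mp hg)))
    exact fun m => hgN m

theorem mem_normalizer_subtype {H : Subgroup G} (hMH : (M : Subgroup G) ≤ H) {g : ↥H} :
    g ∈ normalizer (((M.subtype hMH) : Subgroup ↥H) : Set ↥H) ↔ (g : G) ∈ 𝓝 := by
  refine ⟨fun hg m => ⟨fun hm => (hg ⟨m, hMH hm⟩).mp hm, fun hm => ?_⟩, fun hg m => hg m⟩
  have hmH : m ∈ H := by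
    have := mul_mem (mul_mem (inv_mem g.2) (hMH hm)) g.2
    simpa [mul_assoc] using this
  exact (hg ⟨m, hmH⟩).mpr hm

/-- If a normal subgroup containing `M` lies in `N`, then `M` is normal. -/
theorem normal_of_le (C : Ctx M) {H : Subgroup G} (hH : H.Normal) (hMH : (M : Subgroup G) ≤ H)
    (hHN : H ≤ 𝓝) : (M : Subgroup G).Normal :=
  ⟨fun w hw g => C.toLoc.mem_of_normalizes (by rw [conj_pow, C.cube w hw]; group)
    (hHN (hH.conj_mem w (hMH hw) g))⟩

theorem sup_normalizer (C : Ctx M) {H : Subgroup G} (hH : H.Normal)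
    (hMH : (M : Subgroup G) ≤ H) : 𝓝 ⊔ H = ⊤ := by
  haveI := hH
  have := Sylow.normalizer_sup_eq_top (M.subtype hMH)
  rwa [Sylow.coe_subtype, Subgroup.map_subgroupOf_eq_of_le hMH] at this

/-- A minimal normal subgroup containing `M` is simple, unless `M` is normal. -/
theorem Half.isSimple (h : Half M a R T) {H : Subgroup G} (hH : H.Normal)
    (hMH : (M : Subgroup G) ≤ H) (hnot : ¬ H ≤ 𝓝)
    (hmin : ∀ K : Subgroup G, K.Normal → K ≤ H → K ≠ ⊥ → K = H) : IsSimpleGroup ↥H := by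
  have hL := loc_subtype h.ctx hMH
  haveI : Nontrivial ↥H := ⟨⟨a, hMH h.mem⟩, 1, fun e => h.ne (congrArg Subtype.val e)⟩
  refine ⟨fun K0 hK0 => ?_⟩
  by_contra hcon
  push Not at hcon
  obtain ⟨hK0b, hK0t⟩ := hcon
  obtain ⟨K, ⟨hKn, hKb, hK0⟩, hKmin⟩ := WellFounded.has_min wellFounded_lt
    {K : Subgroup ↥H | K.Normal ∧ K ≠ ⊥ ∧ K ≤ K0} ⟨K0, hK0, hK0b, le_rfl⟩
  set K' := K.map H.subtype with hK'
  have hK'H : K' ≤ H := Subgroup.map_subtype_le K
  have hHK : ∀ x ∈ H, ∀ k ∈ K', x * k * x⁻¹ ∈ K' := by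
    rintro x hx _ ⟨k, hk, rfl⟩
    exact ⟨⟨x, hx⟩ * k * ⟨x, hx⟩⁻¹, hKn.conj_mem k hk _, rfl⟩
  have hHK' : H ≤ normalizer (K' : Set G) := fun x hx k =>
    ⟨fun hk => hHK x hx k hk, fun hk => by
      simpa [mul_assoc] using hHK x⁻¹ (inv_mem hx) _ hk⟩
  have hK'b : K' ≠ ⊥ := fun e =>
    hKb ((Subgroup.map_eq_bot_iff_of_injective K H.subtype_injective).mp e)
  have h3 : 3 ∣ Nat.card K := by
    by_contra h3
    refine hK'b (h.eq_bot_of_coprime (hMH.trans hHK') ?_)
    rwa [hK', ← Nat.card_congr (K.equivMapOfInjective _ H.subtype_injective).toEquiv]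
  haveI : Fact (Nat.Prime 3) := ⟨Nat.prime_three⟩
  obtain ⟨x, hx⟩ := exists_prime_orderOf_dvd_card' 3 h3
  obtain ⟨g, hg⟩ := hL.exists_conj_le (P := zpowers (x : ↥H))
    (IsPGroup.of_card_dvd_pow (n := 1) (by rw [Nat.card_zpowers, orderOf_coe, hx, pow_one]))
  obtain ⟨w, hwM, hwK, hw1⟩ : ∃ w ∈ (M : Subgroup G), w ∈ K' ∧ w ≠ 1 :=
    ⟨((g * (x : ↥H) * g⁻¹ : ↥H) : G), hg _ (mem_zpowers _),
      ⟨_, hKn.conj_mem _ x.2 g, rfl⟩, fun e => by
        have e1 : (x : ↥H) = 1 := conj_eq_one_iff.mp (Subtype.ext e)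
        rw [← orderOf_coe, e1, orderOf_one] at hx
        omega⟩
  by_cases hall : ∀ n ∈ 𝓝, ∀ k ∈ K', n * k * n⁻¹ ∈ K'
  · have hnorm : K'.Normal := by
      rw [← Subgroup.normalizer_eq_top_iff, eq_top_iff, ← sup_normalizer h.ctx hH hMH]
      refine sup_le (fun n hn k => ⟨fun hk => hall n hn k hk, fun hk => ?_⟩) hHK'
      simpa [mul_assoc] using hall n⁻¹ (inv_mem hn) _ hk
    have e := hmin K' hnorm hK'H hK'b
    refine hK0t (eq_top_iff.mpr fun y _ => hK0 ?_)
    have hy : (y : G) ∈ K' := e.symm ▸ y.2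
    obtain ⟨k, hk, hky⟩ := hy
    exact (Subtype.ext hky : k = y) ▸ hk
  · push Not at hall
    obtain ⟨n, hn, k0, hk0, hk0'⟩ := hall
    let φ : ↥H →* ↥H := (MulAut.conjNormal n : MulAut ↥H).toMonoidHom
    let L : Subgroup ↥H := K.map φ
    have hLn : L.Normal := hKn.map φ (MulAut.conjNormal n : MulAut ↥H).surjective
    have hdisj : K ⊓ L = ⊥ := by
      by_contra hb
      have hle : K ⊓ L ≤ K := inf_le_left
      rcases hle.lt_or_eq with hlt | he
      · exact hKmin _ ⟨inferInstance, hb, hle.trans hK0⟩ hlt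
      · have hKL : K ≤ L := inf_eq_left.mp he
        have hcard : Nat.card ↥L = Nat.card ↥K :=
          (Nat.card_congr (K.equivMapOfInjective φ
            (MulAut.conjNormal n : MulAut ↥H).injective).toEquiv).symm
        have hKeq : K = L := Subgroup.eq_of_le_of_card_ge hKL hcard.le
        obtain ⟨k, hk, rfl⟩ := hk0
        have : φ k ∈ K := by rw [hKeq]; exact ⟨k, hk, rfl⟩
        exact hk0' ⟨φ k, this, MulAut.conjNormal_apply n k⟩
    have hcomm : ∀ p ∈ K, ∀ q ∈ L, p * q = q * p := fun p hp q hq =>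
      Subgroup.commute_of_normal_of_disjoint K L hKn hLn (disjoint_iff.mpr hdisj) p q hp hq
    have hKN : K' ≤ 𝓝 := by
      rintro _ ⟨k, hk, rfl⟩
      refine h.ctx.loc (n * w * n⁻¹) (h.conj_mem hn hwM) (fun e => hw1 (conj_eq_one_iff.mp e))
        (mem_centralizer_singleton_iff.mpr ?_)
      obtain ⟨w', hw', rfl⟩ := hwK
      have := congrArg Subtype.val (hcomm k hk (φ w') ⟨w', hw', rfl⟩)
      simpa [φ, MulAut.conjNormal_apply] using this
    exact hnot fun y hy => h.ctx.toLoc.mem_normalizer hwM hw1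
      (h.ctx.toLoc.mem_of_normalizes (by rw [conj_pow, h.ctx.cube w hwM]; group)
        (hKN (hHK y hy w hwK)))

/-- If the reflection lies in a simple normal subgroup `H`, the automiser in `H` is a four
group. -/
theorem Half.le_of_reflection (h : Half M a R T) {H : Subgroup G} (hH : H.Normal)
    (hMH : (M : Subgroup G) ≤ H) (hT : T ∈ H) (hR : R ∉ H) : H ≤ 𝓝 := by
  have hz : R * R ∈ H := by
    have : R * T * R⁻¹ * T ∈ H := mul_mem (hH.conj_mem T hT R) hT
    rwa [mul_assoc (R * T), mul_assoc R, ← mul_assoc T, h.trt'] at this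
  have hzi : (R * R)⁻¹ = R * R := inv_eq_of_mul_eq_one_right h.zz
  let F : ↥(M : Subgroup G) × Bool × Bool → G := fun p =>
    (cond p.2.1 (R * R) 1) * ((p.1 : G) * cond p.2.2 T 1)
  have hFmem : ∀ p, F p ∈ H ∧ F p ∈ 𝓝 := fun p => by
    refine ⟨mul_mem ?_ (mul_mem (hMH p.1.2) ?_), mul_mem ?_ (mul_mem (le_normalizer p.1.2) ?_)⟩
    · cases p.2.1 <;> simp [hz, one_mem]
    · cases p.2.2 <;> simp [hT, one_mem]
    · cases p.2.1
      exacts [one_mem _, mul_mem h.rMem h.rMem]
    · cases p.2.2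
      exacts [one_mem _, h.tMem]
  have hsurj : ∀ g ∈ H, g ∈ 𝓝 → ∃ p, F p = g := by
    intro g hgH hgN
    have sol : ∀ (i : Bool) (c : G), c * a * c⁻¹ = a → cond i (R * R) 1 * c = g →
        ∃ p, F p = g := by
      intro i c hc hg
      rcases h.mem_or (mul_inv_eq_iff_eq_mul.mp hc) with hm | hm
      · exact ⟨(⟨c, hm⟩, i, false), by simpa [F] using hg⟩
      · exact ⟨(⟨c * T, hm⟩, i, true), by simpa [F, mul_assoc, h.tt] using hg⟩
    have bad : ∀ m : G, (m = R ∨ m = R * (R * R)) → m⁻¹ * g * a * (m⁻¹ * g)⁻¹ = a → False := by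
      intro m hm hc
      have hcH : m⁻¹ * g ∈ H := by
        rcases h.mem_or (mul_inv_eq_iff_eq_mul.mp hc) with hc' | hc'
        · exact hMH hc'
        · have := mul_mem (hMH hc') hT
          rwa [mul_assoc _ T, h.tt, mul_one] at this
      have hmH : m ∈ H := by
        have := mul_mem hgH (inv_mem hcH)
        simpa [mul_assoc] using this
      rcases hm with rfl | rfl
      · exact hR hmH
      · exact hR ((Subgroup.mul_mem_cancel_right H hz).mp hmH)
    have shift : ∀ m : G, m * a * m⁻¹ = g * a * g⁻¹ → m⁻¹ * g * a * (m⁻¹ * g)⁻¹ = a := by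
      intro m hm
      calc m⁻¹ * g * a * (m⁻¹ * g)⁻¹ = m⁻¹ * (g * a * g⁻¹) * m := by group
        _ = a := by rw [← hm]; group
    rcases h.orb_conj hgN with e | e | e | e
    · exact sol false g e (by simp)
    · exact sol true ((R * R)⁻¹ * g) (shift _ (h.neg.trans e.symm)) (mul_inv_cancel_left _ _)
    · exact (bad R (Or.inl rfl) (shift _ e.symm)).elim
    · refine (bad _ (Or.inr rfl) (shift _ ?_)).elim
      rw [e]
      calc R * (R * R) * a * (R * (R * R))⁻¹ = R * (R * R * a * (R * R)⁻¹) * R⁻¹ := by group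
        _ = (rot R a)⁻¹ := by rw [h.neg, rot]; group
  have hconjF : ∀ p, F p * a * (F p)⁻¹ = cond p.2.1 a⁻¹ a := by
    rintro ⟨m, i, j⟩
    have hc : (m : G) * cond j T 1 * a * ((m : G) * cond j T 1)⁻¹ = a := by
      refine mul_inv_eq_iff_eq_mul.mpr ?_
      cases j
      · simpa using (h.mem_centralizer m.2).1
      · simpa using (h.mem_centralizer m.2).2
    calc F (m, i, j) * a * (F (m, i, j))⁻¹
        = cond i (R * R) 1 * ((m : G) * cond j T 1 * a * ((m : G) * cond j T 1)⁻¹) *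
          (cond i (R * R) 1)⁻¹ := by simp only [F]; group
      _ = cond i a⁻¹ a := by
        rw [hc]; cases i
        · simp
        · exact h.neg
  have ha2 : a ≠ a⁻¹ := fun e => h.ne (eq_one_of_sq (h.ctx.cube a h.mem) e)
  have hinj : Function.Injective F := by
    rintro ⟨m, i, j⟩ ⟨m', i', j'⟩ e
    have hi : i = i' := by
      have h1 := hconjF (m, i, j)
      rw [e, hconjF] at h1
      cases i <;> cases i' <;> simp only [cond_true, cond_false] at h1 <;>
        first | rfl | exact absurd h1 ha2 | exact absurd h1.symm ha2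
    subst hi
    simp only [F, mul_right_inj] at e
    cases j <;> cases j' <;> simp only [cond_true, cond_false, mul_one] at e
    · rw [Subtype.ext e]
    · refine absurd ?_ h.t_notMem
      rw [show T = (m' : G)⁻¹ * (m : G) by rw [e]; group]
      exact mul_mem (inv_mem m'.2) m.2
    · refine absurd ?_ h.t_notMem
      rw [show T = (m : G)⁻¹ * (m' : G) by rw [← e]; group]
      exact mul_mem (inv_mem m.2) m'.2
    · rw [Subtype.ext (mul_right_cancel e)]
  set MH := M.subtype hMH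
  set NH := normalizer ((MH : Subgroup ↥H) : Set ↥H)
  let F' : ↥(M : Subgroup G) × Bool × Bool → ↥NH := fun p =>
    ⟨⟨F p, (hFmem p).1⟩, (mem_normalizer_subtype hMH).mpr (hFmem p).2⟩
  have hF' : Function.Bijective F' :=
    ⟨fun p q e => hinj (congrArg (fun x : ↥NH => ((x : ↥H) : G)) e), fun g => by
      obtain ⟨p, hp⟩ := hsurj _ g.1.2 ((mem_normalizer_subtype hMH).mp g.2)
      exact ⟨p, Subtype.ext (Subtype.ext hp)⟩⟩
  have hcard : Nat.card ↥NH = 36 := by
    rw [← Nat.card_congr (Equiv.ofBijective F' hF'), Nat.card_prod, h.ctx.card]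
    simp
  have hyp : Hyp MH := by
    refine ⟨loc_subtype h.ctx hMH, ?_, ?_, ?_⟩
    · ext g
      rw [Subgroup.mem_centralizer_iff]
      constructor
      · intro hg
        show (g : G) ∈ (M : Subgroup G)
        rw [← h.ctx.self, Subgroup.mem_centralizer_iff]
        exact fun m hm => congrArg Subtype.val (hg ⟨m, hMH hm⟩ hm)
      · exact fun hg m hm => Subtype.ext (h.ctx.comm _ hm _ hg)
    · intro g hg
      show (g : G) * (g : G) ∈ (M : Subgroup G)
      obtain ⟨⟨m, i, j⟩, hp⟩ := hsurj _ g.2 ((mem_normalizer_subtype hMH).mp hg)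
      rw [← hp]
      have hTT : ∀ x : G, T * x * T⁻¹ = T * x * T := fun x => by rw [h.tinv]
      have hTm : T * (m : G) * T ∈ (M : Subgroup G) := hTT _ ▸ h.conj_mem h.tMem m.2
      have hzm : R * R * (m : G) * (R * R) ∈ (M : Subgroup G) := by
        have := h.conj_mem (mul_mem h.rMem h.rMem) m.2
        rwa [hzi] at this
      cases i <;> cases j <;> simp only [F, cond_true, cond_false, one_mul, mul_one]
      · exact mul_mem m.2 m.2
      · rw [show (m : G) * T * ((m : G) * T) = (m : G) * (T * m * T) by simp only [mul_assoc]]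
        exact mul_mem m.2 hTm
      · rw [show R * R * (m : G) * (R * R * (m : G)) = R * R * m * (R * R) * m by
          simp only [mul_assoc]]
        exact mul_mem hzm m.2
      · rw [show R * R * ((m : G) * T) * (R * R * ((m : G) * T)) =
            R * R * m * (T * (R * R)) * (m * T) by simp only [mul_assoc],
          ← h.z_commute,
          show R * R * (m : G) * (R * R * T) * (m * T) = R * R * m * (R * R) * (T * m * T) by
            simp only [mul_assoc]]
        exact mul_mem hzm hTm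
    · have h9 : Nat.card ↥((MH : Subgroup ↥H).subgroupOf NH) = 9 :=
        (Nat.card_congr (Subgroup.subgroupOfEquivOfLe le_normalizer).toEquiv).trans
          (loc_subtype h.ctx hMH).card
      have := Subgroup.card_mul_index ((MH : Subgroup ↥H).subgroupOf NH)
      rw [h9, hcard] at this
      exact Nat.eq_of_mul_eq_mul_left (by norm_num : 0 < 9) (this.trans (by norm_num))
  have htop := Cfsg.Agent.S3805.main hyp
  intro g hg
  exact (mem_normalizer_subtype hMH (g := ⟨g, hg⟩)).mp (htop ▸ Subgroup.mem_top _)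

/-- The group is symmetric of degree six when a proper normal subgroup containing `M` is
alternating of degree six. -/
theorem Half.symSix (h : Half M a R T) {H : Subgroup G} (hH : H.Normal) (hHt : H ≠ ⊤)
    (hMH : (M : Subgroup G) ≤ H) (ι : ↥H ≃* ↥(alternatingGroup (Fin 6))) :
    Nonempty (G ≃* Equiv.Perm (Fin 6)) := by
  haveI := hH
  have h360 : Nat.card ↥H = 360 := by
    rw [Nat.card_congr ι.toEquiv]
    have := two_mul_nat_card_alternatingGroup (α := Fin 6)
    rw [Nat.card_perm, Nat.card_fin, show Nat.factorial 6 = 720 from rfl] at this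
    omega
  let Θ : G →* MulAut ↥(alternatingGroup (Fin 6)) :=
    MonoidHom.mk' (fun g => ι.symm.trans ((MulAut.conjNormal g : MulAut ↥H).trans ι)) (fun a b => by
      ext y; simp [map_mul, MulAut.mul_apply])
  have hΘapp : ∀ g y, Θ g y = ι ((MulAut.conjNormal g : MulAut ↥H) (ι.symm y)) := fun g y => rfl
  have hΘinj : Function.Injective Θ := by
    rw [injective_iff_map_eq_one]
    intro k hk
    have hker : ∀ m : ↥H, k * (m : G) = (m : G) * k := fun m => by
      have := DFunLike.congr_fun hk (ι m)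
      rw [hΘapp, MulEquiv.symm_apply_apply, MulAut.one_apply] at this
      exact mul_inv_eq_iff_eq_mul.mp ((MulAut.conjNormal_apply k m).symm.trans
        (congrArg (fun w : ↥H => (w : G)) (ι.injective this)))
    have hkM : k ∈ (M : Subgroup G) := by
      rw [← h.ctx.self, Subgroup.mem_centralizer_iff]
      exact fun m hm => (hker ⟨m, hMH hm⟩).symm
    have hc : ι ⟨k, hMH hkM⟩ ∈ Subgroup.center ↥(alternatingGroup (Fin 6)) := by
      rw [Subgroup.mem_center_iff]
      intro y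
      obtain ⟨m, rfl⟩ := ι.surjective y
      rw [← map_mul, ← map_mul]
      exact congrArg ι (Subtype.ext (hker m).symm)
    rw [alternatingGroup.center_eq_bot (by simp), Subgroup.mem_bot, MulEquiv.map_eq_one_iff] at hc
    exact congrArg Subtype.val hc
  set C6 := (MulAut.conjNormal : Equiv.Perm (Fin 6) →* MulAut ↥(alternatingGroup (Fin 6))) with hC6
  let P : Subgroup G := C6.range.comap Θ
  have hHP : H ≤ P := by
    intro g hg
    refine ⟨((ι ⟨g, hg⟩ : alternatingGroup (Fin 6)) : Equiv.Perm (Fin 6)),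
      MulEquiv.ext fun y => Subtype.ext ?_⟩
    rw [hΘapp, show (MulAut.conjNormal g : MulAut ↥H) (ι.symm y) = ⟨g, hg⟩ * ι.symm y * ⟨g, hg⟩⁻¹
      from Subtype.ext (by simp [MulAut.conjNormal_apply]), map_mul, map_mul, map_inv,
      MulEquiv.apply_symm_apply]
    simp [hC6, MulAut.conjNormal_apply]
  have hfix : ∀ g w : G, w ∈ (M : Subgroup G) → w ≠ 1 → g * w * g⁻¹ = w → g ∈ P := by
    intro g w hw hw1 hgw
    have h3 : (ι ⟨w, hMH hw⟩) ^ 3 = 1 := by
      rw [← map_pow, show (⟨w, hMH hw⟩ : ↥H) ^ 3 = 1 from Subtype.ext (h.ctx.cube w hw), map_one]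
    have h1 : ι ⟨w, hMH hw⟩ ≠ 1 := fun e => by
      rw [MulEquiv.map_eq_one_iff] at e
      exact hw1 (congrArg Subtype.val e)
    have hfx : Θ g (ι ⟨w, hMH hw⟩) = ι ⟨w, hMH hw⟩ := by
      rw [hΘapp, MulEquiv.symm_apply_apply]
      exact congrArg ι (Subtype.ext (by rw [MulAut.conjNormal_apply]; exact hgw))
    obtain ⟨σ, hσ⟩ := Cfsg.Agent.Lib.InvChar.TwoSymFour.Setup.of_fix_three (Θ g) _ h3 h1 hfx
    exact ⟨σ, hσ⟩
  have hTP : T ∈ P := hfix T a h.mem h.ne (by rw [h.tinv, h.fixed])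
  have hRP : R ∈ P := by
    have h' := h.second
    have := mul_mem (hfix (R * T) _ h'.mem h'.ne (by rw [h'.tinv, h'.fixed])) hTP
    rwa [mul_assoc, h.tt, mul_one] at this
  have hNP : 𝓝 ≤ P := by
    intro g hg
    have shift : ∀ m ∈ P, m * a * m⁻¹ = g * a * g⁻¹ → g ∈ P := fun m hm e => by
      have hc : m⁻¹ * g ∈ P := hfix _ a h.mem h.ne (by
        calc m⁻¹ * g * a * (m⁻¹ * g)⁻¹ = m⁻¹ * (g * a * g⁻¹) * m := by group
          _ = a := by rw [← e]; group)
      simpa using mul_mem hm hc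
    rcases h.orb_conj hg with e | e | e | e
    · exact shift 1 (one_mem _) (by rw [e]; group)
    · exact shift (R * R) (mul_mem hRP hRP) (h.neg.trans e.symm)
    · exact shift R hRP e.symm
    · refine shift (R * (R * R)) (mul_mem hRP (mul_mem hRP hRP)) ?_
      rw [e]
      calc R * (R * R) * a * (R * (R * R))⁻¹ = R * (R * R * a * (R * R)⁻¹) * R⁻¹ := by group
        _ = (rot R a)⁻¹ := by rw [h.neg, rot]; group
  have hrange : ∀ g, Θ g ∈ C6.range := fun g => by
    have : g ∈ P := (eq_top_iff.mp (eq_top_iff.mpr ((sup_normalizer h.ctx hH hMH).ge.trans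
      (sup_le hNP hHP)))) (Subgroup.mem_top g)
    exact this
  have hCinj : Function.Injective C6 :=
    Cfsg.Agent.Lib.PGroups.AutAlternating.conjNormal_injective (by norm_num)
  let f : G →* Equiv.Perm (Fin 6) :=
    (MonoidHom.ofInjective hCinj).symm.toMonoidHom.comp (Θ.codRestrict C6.range hrange)
  have hf : Function.Injective f := fun a b e =>
    hΘinj (congrArg (fun w : ↥C6.range => (w : MulAut ↥(alternatingGroup (Fin 6))))
      ((MonoidHom.ofInjective hCinj).symm.injective e))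
  refine ⟨MulEquiv.ofBijective f ((Nat.bijective_iff_injective_and_card f).mpr ⟨hf, ?_⟩)⟩
  have hdvd := Subgroup.card_dvd_of_injective f hf
  have h720 : Nat.card (Equiv.Perm (Fin 6)) = 720 := by
    rw [Nat.card_perm, Nat.card_fin]; rfl
  rw [h720] at hdvd ⊢
  have hmul := Subgroup.card_mul_index H
  rw [h360] at hmul
  have hidx : H.index ≠ 1 := fun e => hHt (Subgroup.index_eq_one.mp e)
  have hpos : H.index ≠ 0 := Subgroup.index_ne_zero_of_finite
  have := Nat.le_of_dvd (by norm_num) hdvd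
  omega

/-- The dichotomy. -/
theorem normal_or_symSix (h : Half M a R T) :
    (M : Subgroup G).Normal ∨ Nonempty (G ≃* Equiv.Perm (Fin 6)) := by
  haveI : Fact (Nat.Prime 3) := ⟨Nat.prime_three⟩
  have hne : (⊤ : Subgroup G) ≠ ⊥ := fun e => h.ne (by simpa [e] using Subgroup.mem_top a)
  obtain ⟨H, ⟨hH, hHb⟩, hHmin⟩ := WellFounded.has_min wellFounded_lt
    {K : Subgroup G | K.Normal ∧ K ≠ ⊥} ⟨⊤, inferInstance, hne⟩
  have hmin : ∀ K : Subgroup G, K.Normal → K ≤ H → K ≠ ⊥ → K = H := fun K hK hle hb =>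
    hle.lt_or_eq.resolve_left fun hlt => hHmin K ⟨hK, hb⟩ hlt
  have h3 : 3 ∣ Nat.card H := by
    by_contra h3
    exact hHb (h.eq_bot_of_coprime
      (fun g _ => (Subgroup.normalizer_eq_top_iff.mpr hH).symm ▸ Subgroup.mem_top g) h3)
  obtain ⟨x, hx⟩ := exists_prime_orderOf_dvd_card' 3 h3
  obtain ⟨g, hg⟩ := h.ctx.toLoc.exists_conj_le (P := zpowers (x : G))
    (IsPGroup.of_card_dvd_pow (n := 1) (by rw [Nat.card_zpowers, orderOf_coe, hx, pow_one]))
  have hw1 : g * (x : G) * g⁻¹ ≠ 1 := fun e => by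
    rw [← orderOf_coe, conj_eq_one_iff.mp e, orderOf_one] at hx
    omega
  have hwH : g * (x : G) * g⁻¹ ∈ H := hH.conj_mem _ x.2 g
  have hMH : (M : Subgroup G) ≤ H :=
    h.le_of_invariant (hg _ (mem_zpowers _)) hw1 hwH (hH.conj_mem _ hwH R)
  by_cases hle : H ≤ 𝓝
  · exact Or.inl (normal_of_le h.ctx hH hMH hle)
  haveI hsimp := h.isSimple hH hMH hle hmin
  by_cases htop : H = ⊤
  · exfalso
    haveI : IsSimpleGroup G := by
      haveI : Nontrivial G := ⟨a, 1, h.ne⟩
      refine ⟨fun K hK => ?_⟩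
      by_contra hc
      push Not at hc
      exact hc.2 ((hmin K hK (htop ▸ le_top) hc.1).trans htop)
    haveI := Fintype.ofFinite (IrrCharacter G)
    exact false_of_half h
  have hL := loc_subtype h.ctx hMH
  by_cases hfpf : ∀ s ∈ (M : Subgroup G), s ≠ 1 → ∀ t ∈ H, t * s = s * t → t ∈ (M : Subgroup G)
  · obtain ⟨ι⟩ := Cfsg.Agent.S3341.result (M.subtype hMH) (M.subtype hMH : Subgroup ↥H) rfl
      ⟨⟨fun p q => Subtype.ext (hL.comm _ p.2 _ q.2)⟩⟩ hL.cube hL.card
      ⟨⟨a, hMH h.mem⟩, ⟨a * rot R a, hMH h.second.mem⟩,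
        orderOf_eq_prime (Subtype.ext (h.ctx.cube a h.mem))
          (fun e => h.ne (congrArg Subtype.val e)),
        orderOf_eq_prime (Subtype.ext (h.ctx.cube _ h.second.mem))
          (fun e => h.second.ne (congrArg Subtype.val e)),
        fun k e => h.not_conj_mul (isConj_iff.mpr ⟨k, congrArg Subtype.val e⟩)⟩
      (fun s hs hs1 => le_antisymm
        (fun t ht => hfpf _ hs (fun e => hs1 (Subtype.ext e)) _ t.2
          (congrArg Subtype.val (mem_centralizer_singleton_iff.mp ht)))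
        (fun t ht => mem_centralizer_singleton_iff.mpr (Subtype.ext (h.ctx.comm _ ht _ hs))))
    exact Or.inr (h.symSix hH htop hMH ι)
  -- a reflection lies in `H`
  push Not at hfpf
  obtain ⟨s, hs, hs1, t, htH, hts, htM⟩ := hfpf
  have refl : ∀ (a₀ T₀ : G), Half M a₀ R T₀ → Orb R a₀ s → T₀ ∈ H := by
    intro a₀ T₀ h₀ ho
    obtain ⟨n, hn, rfl⟩ := h₀.exists_of_orb ho
    have hc : n⁻¹ * t * n * a₀ = a₀ * (n⁻¹ * t * n) := by
      calc n⁻¹ * t * n * a₀ = n⁻¹ * (t * (n * a₀ * n⁻¹)) * n := by group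
        _ = n⁻¹ * (n * a₀ * n⁻¹ * t) * n := by rw [hts]
        _ = a₀ * (n⁻¹ * t * n) := by group
    rcases h₀.mem_or hc with hm | hm
    · refine absurd ?_ htM
      have := h₀.conj_mem hn hm
      simpa [mul_assoc] using this
    · have h1 : n⁻¹ * t * n ∈ H := by simpa using hH.conj_mem t htH n⁻¹
      exact (Subgroup.mul_mem_cancel_left H h1).mp (hMH hm)
  have main : ∀ (a₀ T₀ : G), Half M a₀ R T₀ → T₀ ∈ H → False := by
    intro a₀ T₀ h₀ hT₀
    by_cases hR : R ∈ H
    · refine htop ?_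
      have hNH : 𝓝 ≤ H := by
        intro n hn
        have shift : ∀ m ∈ H, m * a₀ * m⁻¹ = n * a₀ * n⁻¹ → n ∈ H := fun m hm e => by
          have hc : m⁻¹ * n * a₀ * (m⁻¹ * n)⁻¹ = a₀ := by
            calc m⁻¹ * n * a₀ * (m⁻¹ * n)⁻¹ = m⁻¹ * (n * a₀ * n⁻¹) * m := by group
              _ = a₀ := by rw [← e]; group
          have hcH : m⁻¹ * n ∈ H := by
            rcases h₀.mem_or (mul_inv_eq_iff_eq_mul.mp hc) with h' | h'
            · exact hMH h'
            · exact (Subgroup.mul_mem_cancel_right H hT₀).mp (hMH h')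
          simpa using mul_mem hm hcH
        rcases h₀.orb_conj hn with e | e | e | e
        · exact shift 1 (one_mem _) (by rw [e]; group)
        · exact shift (R * R) (mul_mem hR hR) (h₀.neg.trans e.symm)
        · exact shift R hR e.symm
        · refine shift (R * (R * R)) (mul_mem hR (mul_mem hR hR)) ?_
          rw [e]
          calc R * (R * R) * a₀ * (R * (R * R))⁻¹ = R * (R * R * a₀ * (R * R)⁻¹) * R⁻¹ := by group
            _ = (rot R a₀)⁻¹ := by rw [h₀.neg, rot]; group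
      exact eq_top_iff.mpr ((sup_normalizer h.ctx hH hMH).ge.trans (sup_le hNH le_rfl))
    · exact hle (h₀.le_of_reflection hH hMH hT₀ hR)
  exfalso
  by_cases ho : Orb R a s
  · exact main _ _ h (refl _ _ h ho)
  · refine main _ _ h.second (refl _ _ h.second ?_)
    obtain ⟨z, rfl⟩ := h.basis.surj hs
    have hz0 : z ≠ 0 := fun e => hs1 (by rw [e, h.basis.pp_zero])
    have hz : z ∉ ([(1, 0), (2, 0), (0, 1), (0, 2)] : List (ZMod 3 × ZMod 3)) :=
      fun e => ho (h.orb_pp.mpr ⟨z, e, rfl⟩)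
    have e2 : rot R (a * rot R a) = pp a (rot R a) (-1, 1) := by
      rw [← h.rot_pp 1 1, ← h.mul_rot_eq]; rfl
    obtain ⟨i, j⟩ := z
    obtain ⟨hi, hj⟩ := dec_nz i j hz0 hz
    rcases dec_cover 1 1 i j ⟨one_ne_zero, one_ne_zero⟩ ⟨hi, hj⟩ with e | e | e | e <;> rw [e]
    · exact Or.inl h.mul_rot_eq.symm
    · exact Or.inr (Or.inr (Or.inl e2.symm))
    · exact Or.inr (Or.inl (by rw [h.mul_rot_eq, h.basis.pp_neg]; rfl))
    · exact Or.inr (Or.inr (Or.inr (by rw [e2, h.basis.pp_neg]; rfl)))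

end Cfsg.Agent.Lib.Characters.DihedralNine
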